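import Groth.Agent.Lib.ShriekBC24.Section
import Groth.Agent.Lib.EtShriek24.Sheaf

/-!
# Direct images with proper support commute with base change
-/

universe u

open CategoryTheory CategoryTheory.Limits AlgebraicGeometry Opposite

set_option backward.isDefEq.respectTransparency.types false

namespace Groth.Agent.ShriekBC24

open Groth.Agent.EtStalk Groth.Agent.Gabber24 Groth.Agent.ConnDescent24 Groth.Agent.ProperPush24

variable {X Y P : Scheme.{u}} (f : X ⟶ Y) {Ω : Type u} [Field Ω] [IsSepClosed Ω]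
  {ξ : Spec (CommRingCat.of Ω) ⟶ Y} {pX : P ⟶ X} {pS : P ⟶ Spec (CommRingCat.of Ω)}

lemma isPullback_fibreMap (hP : IsPullback pX pS f ξ) {V : Y.Etale} (v : fib ξ V) :
    IsPullback (fibreMap f hP.w v) pS (bcFst f V) v.left := by
  refine IsPullback.of_right ?_ (fibreMap_fst f hP.w v) (IsPullback.of_hasPullback V.hom f).flip
  exact (congrArg (fun r => IsPullback r pS f _) (fibreMap_hom f hP.w v)).mpr
    ((congrArg (fun r => IsPullback pX pS f r) (show v.left ≫ V.hom = ξ from Over.w v)).mpr hP)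

variable [IsSeparated f] [LocallyOfFiniteType f] (hP : IsPullback pX pS f ξ) (F : EtCoh.Ab X)

/-- Germs of sections with proper support are determined by the values on the geometric fibre. -/
theorem germ_eq_of_vals_supp {V : Y.Etale} (v : fib ξ V) (t t' : F.obj.obj (op ((EtCoh.bc f).obj V)))
    (ht : t ∈ EtShriek.shriekSubgroup f F V) (ht' : t' ∈ EtShriek.shriekSubgroup f F V)
    (h : ∀ (K : Type u) [Field K] [IsSepClosed K] (ζ : Spec (CommRingCat.of K) ⟶ P),
      val F (ζ ≫ pX) (ζ ≫ fibreMap f hP.w v) (by rw [Category.assoc, fibreMap_hom]) t =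
        val F (ζ ≫ pX) (ζ ≫ fibreMap f hP.w v) (by rw [Category.assoc, fibreMap_hom]) t') :
    germ ξ ((EtCoh.push f).obj F) v t = germ ξ ((EtCoh.push f).obj F) v t' := by
  let d := t - t'
  let Z := EtShriek.sectSupp F _ d
  have hZ : ClSub.IsProperOver (EtShriek.prV f V) Z :=
    (EtShriek24.mem_shriekSubgroup_iff f F V d).1 (sub_mem ht ht')
  obtain ⟨T, i, hi, hr, hpT⟩ := (ClSub24.isProperOver_iff_exists (pullback.fst V.hom f) Z).1 hZ
  let vl : Spec (CommRingCat.of Ω) ⟶ V.left := v.left
  let O : V.left.Opens := ⟨(Set.range (i ≫ pullback.fst V.hom f))ᶜ,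
    (i ≫ pullback.fst V.hom f).isClosedMap.isClosed_range.isOpen_compl⟩
  have hO : vl default ∈ O := by
    rintro ⟨z, hz⟩
    rw [Scheme.Hom.comp_apply] at hz
    obtain ⟨w, hw, -⟩ := Scheme.exists_preimage_of_isPullback (isPullback_fibreMap f hP v) (i z) default hz
    let ζ := geomPt P w
    have hd : val F (ζ ≫ pX) (ζ ≫ fibreMap f hP.w v) (by rw [Category.assoc, fibreMap_hom]) d = 0 :=
      (map_sub _ t t').trans (sub_eq_zero.2 (h _ ζ))
    rw [val_eq_zero_iff, Scheme.Hom.comp_apply, geomPt_default, hw] at hd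
    have hz' : i z ∈ Z := hr.le ⟨z, rfl⟩
    rw [show Z = _ from EtShriek24.sectSupp_eq F _ d] at hz'
    exact hz' hd
  obtain ⟨c, hc⟩ := ExtShriek24.exists_lift_opens O vl hO
  refine (germ_eq_iff ξ ((EtCoh.push f).obj F) v t t').2 ⟨EtSite.sub V O, EtSite.subHom V O,
    Over.homMk c (by
      show c ≫ O.ι ≫ V.hom = ξ
      rw [← Category.assoc, hc]
      exact Over.w v), Over.OverMorphism.ext hc, ?_⟩
  refine eq_of_agree F (U := (EtCoh.bc f).obj (EtSite.sub V O)) fun y => (mem_agree_map F _ _ _ y).2 ?_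
  obtain ⟨φ, hφ⟩ := exists_fib ((EtCoh.bc f).obj V) (((EtCoh.bc f).map (EtSite.subHom V O)).left y)
  show ((EtCoh.bc f).map (EtSite.subHom V O)).left y ∈ agree F t t'
  rw [← hφ, mem_agree_iff_germ, ← sub_eq_zero, ← map_sub, ← map_zero (germ _ F φ).hom]
  refine (mem_agree_iff_germ F φ d 0).1 ?_
  by_contra hne
  obtain ⟨z, hz⟩ := hr.ge (show _ ∈ Z by rw [show Z = _ from EtShriek24.sectSupp_eq F _ d]; exact hne)
  refine (bcFst f (EtSite.sub V O) y).2 ⟨z, ?_⟩
  rw [Scheme.Hom.comp_apply, hz]
  exact (congrArg (bcFst f V) hφ).trans <| (Scheme.Hom.comp_apply _ _ _).symm.trans ((congrArg (fun r => r y)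
    (bcFst_nat f (EtSite.subHom V O))).trans (Scheme.Hom.comp_apply _ _ _))

omit [IsSeparated f] in
/-- Support of a pulled back section. -/
theorem sectSupp_res {Q : Scheme.{u}} (e : Q ⟶ X) {N : X.Etale} (s : F.obj.obj (op N)) :
    EtShriek.sectSupp ((EtCoh.pull e).obj F) ((EtCoh.bc e).obj N) (res e F s) =
      bcFst e N ⁻¹' EtShriek.sectSupp F N s := by
  rw [EtShriek24.sectSupp_eq, EtShriek24.sectSupp_eq]
  ext z
  have h := mem_agree_unit e F s 0 z
  rw [map_zero] at h
  exact not_congr h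

section Square

variable {X' Y' : Scheme.{u}} (g : Y' ⟶ Y) (f' : X' ⟶ Y') (g' : X' ⟶ X) (h : IsPullback g' f' f g)

omit [IsSeparated f] [LocallyOfFiniteType f] in
lemma isPullback_sqHom (W : Y.Etale) :
    IsPullback ((sqHom f g f' g' h.w W).left ≫ bcFst g' ((EtCoh.bc f).obj W)) (bcFst f' ((EtCoh.bc g).obj W))
      (bcFst f W) (bcFst g W) := by
  refine IsPullback.of_right ?_ ((Category.assoc _ _ _).trans (sqHom_fst f g f' g' h.w W))
    (IsPullback.of_hasPullback W.hom f).flip
  have hc : bcFst g' ((EtCoh.bc f).obj W) ≫ ((EtCoh.bc f).obj W).hom =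
      ((EtCoh.bc g').obj ((EtCoh.bc f).obj W)).hom ≫ g' := pullback.condition
  have e : ((sqHom f g f' g' h.w W).left ≫ bcFst g' ((EtCoh.bc f).obj W)) ≫ pullback.snd W.hom f =
      ((EtCoh.bc f').obj ((EtCoh.bc g).obj W)).hom ≫ g' :=
    (Category.assoc _ _ _).trans ((congrArg (_ ≫ ·) hc).trans ((Category.assoc _ _ _).symm.trans
      (congrArg (· ≫ g') (MorphismProperty.Over.w (sqHom f g f' g' h.w W)))))
  refine (congrArg (fun r => IsPullback r (bcFst f' ((EtCoh.bc g).obj W)) f (bcFst g W ≫ W.hom)) e).mpr ?_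
  refine (congrArg (fun r => IsPullback _ _ f r)
    (show bcFst g W ≫ W.hom = ((EtCoh.bc g).obj W).hom ≫ g from pullback.condition)).mpr ?_
  exact (IsPullback.of_hasPullback ((EtCoh.bc g).obj W).hom f').flip.paste_horiz h

omit [IsSeparated f] in
/-- Base changed sections keep proper support. -/
theorem mem_shriek_baseChange [LocallyOfFiniteType f'] (W : Y.Etale)
    (s : F.obj.obj (op ((EtCoh.bc f).obj W))) (hs : s ∈ EtShriek.shriekSubgroup f F W) :
    ((EtCoh.pull g').obj F).obj.map (sqHom f g f' g' h.w W).op (res g' F s) ∈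
      EtShriek.shriekSubgroup f' ((EtCoh.pull g').obj F) ((EtCoh.bc g).obj W) := by
  rw [EtShriek24.mem_shriekSubgroup_iff] at hs ⊢
  rw [EtShriek24.sectSupp_map, sectSupp_res, ← Set.preimage_comp]
  haveI : LocallyOfFiniteType (bcFst f W) := inferInstanceAs (LocallyOfFiniteType (pullback.fst W.hom f))
  have e := ClSub24.isProperOver_preimage_of_isPullback (bcFst f W) (isPullback_sqHom f g f' g' h W) hs
  refine Eq.mp (congrArg (ClSub.IsProperOver _) ?_) e
  ext z
  exact ⟨fun hz => by simpa only [Set.mem_preimage, Function.comp_apply, Scheme.Hom.comp_apply] using hz,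
    fun hz => by simpa only [Set.mem_preimage, Function.comp_apply, Scheme.Hom.comp_apply] using hz⟩

/-- The base change map on sections with proper support. -/
theorem exists_shBaseChange [LocallyOfFiniteType f'] :
    ∃ Φ : (EtCoh.pull g).obj ((EtShriek24.shFunctor f).obj F) ⟶
        (EtShriek24.shFunctor f').obj ((EtCoh.pull g').obj F),
      Φ ≫ (EtShriek24.shι f').app ((EtCoh.pull g').obj F) =
        (EtCoh.pull g).map ((EtShriek24.shι f).app F) ≫ EtCoh.baseChange0 f g f' g' h.w F := by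
  let G := (EtCoh.pull g').obj F
  let Φ₀ := (EtCoh.pull g).map ((EtShriek24.shι f).app F) ≫ EtCoh.baseChange0 f g f' g' h.w F
  let m := ((EtCoh.pullPushAdj g).homEquiv _ _) Φ₀
  have hm : ∀ (W : Y.Etaleᵒᵖ) (s : ((EtShriek24.shFunctor f).obj F).obj.obj W),
      m.hom.app W s = G.obj.map (sqHom f g f' g' h.w W.unop).op (res g' F s.1) := by
    intro W s
    refine (congrArg (fun r : _ ⟶ (EtCoh.push g).obj ((EtCoh.push f').obj G) => r.hom.app W s)
      (Adjunction.homEquiv_unit (EtCoh.pullPushAdj g) _ _ Φ₀)).trans ?_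
    refine Eq.trans ?_ (baseChange0_germ f g f' g' h.w F (W := W.unop) s.1)
    refine congrArg ((EtCoh.baseChange0 f g f' g' h.w F).hom.app (op ((EtCoh.bc g).obj W.unop))) ?_
    exact congrArg (fun r : (EtShriek24.shFunctor f).obj F ⟶
      (EtCoh.push g).obj ((EtCoh.pull g).obj ((EtCoh.push f).obj F)) => r.hom.app W s)
      ((EtCoh.pullPushAdj g).unit.naturality ((EtShriek24.shι f).app F)).symm
  have hmem : ∀ (W : Y.Etaleᵒᵖ) (s : ((EtShriek24.shFunctor f).obj F).obj.obj W),
      m.hom.app W s ∈ EtShriek.shriekSubgroup f' G ((EtCoh.bc g).obj W.unop) := fun W s => by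
    rw [hm]
    exact mem_shriek_baseChange f F g f' g' h W.unop s.1 s.2
  let m' : (EtShriek24.shFunctor f).obj F ⟶ (EtCoh.push g).obj ((EtShriek24.shFunctor f').obj G) := ⟨
    { app := fun W => AddCommGrpCat.ofHom
        ((m.hom.app W).hom.codRestrict (EtShriek.shriekSubgroup f' G ((EtCoh.bc g).obj W.unop)) (hmem W))
      naturality := fun W W' φ => AddCommGrpCat.ext fun s => Subtype.ext
        (NatTrans.naturality_apply m.hom φ s) }⟩
  have hm' : m' ≫ (EtCoh.push g).map ((EtShriek24.shι f').app G) = m :=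
    Sheaf.hom_ext (NatTrans.ext (funext fun W => AddCommGrpCat.ext fun s => rfl))
  refine ⟨((EtCoh.pullPushAdj g).homEquiv _ _).symm m', ?_⟩
  rw [← Adjunction.homEquiv_naturality_right_symm, hm']
  exact Equiv.symm_apply_apply _ _

include h in
set_option maxHeartbeats 2000000 in
/-- Sections with proper support commute with base change. -/
theorem exists_iso_baseChange [LocallyOfFiniteType f'] :
    ∃ φ : (EtCoh.pull g).obj ((EtShriek24.shFunctor f).obj F) ≅
        (EtShriek24.shFunctor f').obj ((EtCoh.pull g').obj F),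
      φ.hom ≫ (EtShriek24.shι f').app ((EtCoh.pull g').obj F) =
        (EtCoh.pull g).map ((EtShriek24.shι f).app F) ≫ EtCoh.baseChange0 f g f' g' h.w F := by
  haveI : IsSeparated f' := MorphismProperty.of_isPullback h ‹IsSeparated f›
  obtain ⟨Φ, hΦ⟩ := exists_shBaseChange f F g f' g' h
  suffices IsIso Φ from ⟨asIso Φ, hΦ⟩
  rw [isIso_iff_stalk]
  intro Ω _ _ η
  let G := (EtCoh.pull g').obj F
  let a := pullback.fst f' η
  let pS := pullback.snd f' η
  have hP' : IsPullback a pS f' η := IsPullback.of_hasPullback f' η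
  have hP : IsPullback (a ≫ g') pS f (η ≫ g) := hP'.paste_horiz h
  let shF := (EtShriek24.shFunctor f).obj F
  have hb := ConcreteCategory.bijective_of_isIso (stalkPull g η shF)
  have hinj : Function.Injective ((EtCoh.stalk η).map ((EtShriek24.shι f').app G)) :=
    ConcreteCategory.injective_of_mono_of_preservesPullback _
  -- the image of a germ and its values
  have himg : ∀ {V : Y.Etale} (v : fib (η ≫ g) V) (t : shF.obj.obj (op V)),
      (EtCoh.stalk η).map ((EtShriek24.shι f').app G) ((EtCoh.stalk η).map Φ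
        (stalkPull g η shF (germ (η ≫ g) shF v t))) =
      germ η ((EtCoh.push f').obj G) (liftFib g η v) (G.obj.map (sqHom f g f' g' h.w V).op (res g' F t.1)) := by
    intro V v t
    rw [← Functor.map_comp_apply, hΦ, germ_stalkPull, germ_nat]
    refine congrArg (germ η ((EtCoh.push f').obj G) (liftFib g η v)) ?_
    refine Eq.trans ?_ (baseChange0_germ f g f' g' h.w F (W := V) t.1)
    refine congrArg ((EtCoh.baseChange0 f g f' g' h.w F).hom.app (op ((EtCoh.bc g).obj V))) ?_
    exact congrArg (fun r : shF ⟶ (EtCoh.push g).obj ((EtCoh.pull g).obj ((EtCoh.push f).obj F)) =>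
      r.hom.app (op V) t) ((EtCoh.pullPushAdj g).unit.naturality ((EtShriek24.shι f).app F)).symm
  have hvals : ∀ {V : Y.Etale} (v : fib (η ≫ g) V) (t : F.obj.obj (op ((EtCoh.bc f).obj V)))
      (K : Type u) [Field K] [IsSepClosed K] (ζ : Spec (CommRingCat.of K) ⟶ pullback f' η),
      val G (ζ ≫ a) (ζ ≫ fibreMap f' hP'.w (liftFib g η v)) (by rw [Category.assoc, fibreMap_hom])
        (G.obj.map (sqHom f g f' g' h.w V).op (res g' F t)) =
      stalkPull g' (ζ ≫ a) F (val F ((ζ ≫ a) ≫ g') (ζ ≫ fibreMap f hP.w v)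
        (by rw [Category.assoc, fibreMap_hom, Category.assoc]) t) := by
    intro V v t K _ _ ζ
    refine at_res g' F t (sqHom f g f' g' h.w V) (ζ ≫ fibreMap f hP.w v) _ ?_
    refine (Category.assoc _ _ _).trans (congrArg (ζ ≫ ·) (pullback.hom_ext ?_ ?_))
    · refine (Category.assoc _ _ _).trans ?_
      refine (congrArg (_ ≫ ·) ((Category.assoc _ _ _).trans (sqHom_fst f g f' g' h.w V))).trans ?_
      refine (Category.assoc _ _ _).symm.trans ((congrArg (· ≫ bcFst g V) (pullback.lift_fst _ _ _)).trans ?_)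
      refine (Category.assoc _ _ _).trans ((congrArg (pS ≫ ·) (pullback.lift_fst _ _ _)).trans ?_)
      exact (pullback.lift_fst _ _ _).symm
    · have hc : bcFst g' ((EtCoh.bc f).obj V) ≫ ((EtCoh.bc f).obj V).hom =
          ((EtCoh.bc g').obj ((EtCoh.bc f).obj V)).hom ≫ g' := pullback.condition
      have hsq := MorphismProperty.Over.w (sqHom f g f' g' h.w V)
      refine (Category.assoc _ _ _).trans ((congrArg (_ ≫ ·) ((Category.assoc _ _ _).trans
        (congrArg (_ ≫ ·) hc))).trans ?_)
      refine Eq.trans ?_ (fibreMap_hom f hP.w v).symm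
      rw [← Category.assoc (sqHom f g f' g' h.w V).left, hsq, ← Category.assoc]
      exact congrArg (· ≫ g') (fibreMap_hom f' hP'.w (liftFib g η v))
  constructor
  · refine (injective_iff_map_eq_zero ((EtCoh.stalk η).map Φ).hom).2 fun p hp => ?_
    obtain ⟨p', rfl⟩ := hb.2 p
    obtain ⟨V, v, t, rfl⟩ := germ_surjective (η ≫ g) shF p'
    suffices h0 : germ (η ≫ g) shF v t = 0 by rw [h0, map_zero]
    apply (ConcreteCategory.injective_of_mono_of_preservesPullback
      ((EtCoh.stalk (η ≫ g)).map ((EtShriek24.shι f).app F)))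
    rw [map_zero, germ_nat]
    refine Eq.trans (germ_eq_of_vals_supp f hP F v t.1 0 t.2 (zero_mem _) fun K _ _ ζ => ?_) (map_zero _)
    replace hp : germ η ((EtCoh.push f').obj G) (liftFib g η v) (G.obj.map (sqHom f g f' g' h.w V).op (res g' F t.1)) =
        germ η ((EtCoh.push f').obj G) (liftFib g η v) (G.obj.map (sqHom f g f' g' h.w V).op (res g' F 0)) := by
      refine (himg v t).symm.trans ((congrArg _ hp).trans ?_)
      refine (map_zero _).trans (Eq.symm ?_)
      exact (congrArg _ ((congrArg _ (map_zero _)).trans (map_zero _))).trans (map_zero _)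
    obtain ⟨W, m, w, hw, hWt⟩ := (germ_eq_iff η ((EtCoh.push f').obj G) _ _ _).1 hp
    have e : ∀ u : F.obj.obj (op ((EtCoh.bc f).obj V)),
        val G (ζ ≫ a) (ζ ≫ fibreMap f' hP'.w w) (by rw [Category.assoc, fibreMap_hom])
          (G.obj.map ((EtCoh.bc f').map m).op (G.obj.map (sqHom f g f' g' h.w V).op (res g' F u))) =
        stalkPull g' (ζ ≫ a) F (val F ((ζ ≫ a) ≫ g') (ζ ≫ fibreMap f hP.w v)
          (by rw [Category.assoc, fibreMap_hom, Category.assoc]) u) := fun u => by
      refine Eq.trans ?_ (hvals v u K ζ)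
      exact val_map G _ _ _ _ _ _ (by rw [Category.assoc, fibreMap_map, hw]) _
    have := (e t.1).symm.trans ((congrArg _ hWt).trans (e 0))
    exact (val_congr' F (Category.assoc _ _ _) rfl rfl).1
      ((ConcreteCategory.bijective_of_isIso (stalkPull g' (ζ ≫ a) F)).1 this)
  · intro q
    obtain ⟨W', w', t', rfl⟩ := germ_surjective η ((EtShriek24.shFunctor f').obj G) q
    let κ := fibreMap f' hP'.w w'
    let m₀ : EtCoh.top (pullback f' η) ⟶ (EtCoh.bc a).obj ((EtCoh.bc f').obj W') :=
      MorphismProperty.Over.homMk (pullback.lift κ (𝟙 _) (by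
        exact (fibreMap_hom f' hP'.w w').trans (Category.id_comp a).symm)) (pullback.lift_snd _ _ _)
    let τ := ((EtCoh.pull a).obj G).obj.map m₀.op (res a G t'.1)
    have hτsupp : EtShriek.sectSupp ((EtCoh.pull a).obj G) (EtCoh.top (pullback f' η)) τ =
        κ ⁻¹' EtShriek.sectSupp G _ t'.1 := by
      rw [EtShriek24.sectSupp_map, sectSupp_res, ← Set.preimage_comp]
      ext z
      have e' : m₀.left ≫ bcFst a ((EtCoh.bc f').obj W') = κ := pullback.lift_fst _ _ _
      have e : bcFst a ((EtCoh.bc f').obj W') (m₀.left z) = κ z :=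
        (Scheme.Hom.comp_apply _ _ _).symm.trans (congrArg (fun r => r z) e')
      exact iff_of_eq (congrArg (· ∈ EtShriek.sectSupp G _ t'.1) e)
    have hσsupp : ClSub.IsProperOver pS (EtShriek.sectSupp ((EtCoh.pull (a ≫ g')).obj F)
        (EtCoh.top (pullback f' η)) (toComp F a g' τ)) := by
      rw [EtShriek24.sectSupp_of_mono ((EtCore.pullComp a g').inv.app F)]
      refine Eq.mp (congrArg (ClSub.IsProperOver pS) hτsupp.symm) ?_
      haveI : LocallyOfFiniteType (bcFst f' W') := inferInstanceAs (LocallyOfFiniteType (pullback.fst W'.hom f'))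
      exact ClSub24.isProperOver_preimage_of_isPullback (bcFst f' W') (isPullback_fibreMap f' hP' w')
        ((EtShriek24.mem_shriekSubgroup_iff f' G W' t'.1).1 t'.2)
    obtain ⟨V, v, t, hts, ht⟩ := exists_section_of_proper_support f hP F (toComp F a g' τ) hσsupp
    let ts : shF.obj.obj (op V) := ⟨t, (EtShriek24.mem_shriekSubgroup_iff f F V t).2 hts⟩
    refine ⟨stalkPull g η shF (germ (η ≫ g) shF v ts), hinj ((himg v ts).trans ?_)⟩
    rw [germ_nat]
    show _ = germ η ((EtCoh.push f').obj G) w' t'.1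
    let U'' := Gabber24.prod ((EtCoh.bc g).obj V) W'
    let vl : Spec (CommRingCat.of Ω) ⟶ ((EtCoh.bc g).obj V).left := (liftFib g η v).left
    let wl : Spec (CommRingCat.of Ω) ⟶ W'.left := w'.left
    have hvl : vl ≫ ((EtCoh.bc g).obj V).hom = η := Over.w (liftFib g η v)
    have hwl : wl ≫ W'.hom = η := Over.w w'
    let u'' : fib η U'' := Over.homMk (pullback.lift vl wl (hvl.trans hwl.symm)) (by
      show pullback.lift vl wl (hvl.trans hwl.symm) ≫ pullback.fst _ _ ≫ _ = η
      exact (Category.assoc _ _ _).symm.trans ((congrArg (· ≫ _) (pullback.lift_fst _ _ _)).trans hvl))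
    have hu₁ : (Scheme.pointSmallEtale η).fiber.map (prodFst ((EtCoh.bc g).obj V) W') u'' = liftFib g η v :=
      Over.OverMorphism.ext (pullback.lift_fst _ _ _)
    have hu₂ : (Scheme.pointSmallEtale η).fiber.map (prodSnd ((EtCoh.bc g).obj V) W') u'' = w' :=
      Over.OverMorphism.ext (pullback.lift_snd _ _ _)
    rw [← hu₁, ← germ_map, ← hu₂, ← germ_map]
    refine germ_eq_of_vals_supp f' hP' G u'' _ _
      (EtShriek.shriekSubgroup_le_comap f' G (prodFst ((EtCoh.bc g).obj V) W')
        (mem_shriek_baseChange f F g f' g' h V t ts.2))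
      (EtShriek.shriekSubgroup_le_comap f' G (prodSnd ((EtCoh.bc g).obj V) W') t'.2) fun K _ _ ζ => ?_
    refine (val_map G (ζ ≫ a) _ _ _ (ζ ≫ fibreMap f' hP'.w (liftFib g η v)) (by rw [Category.assoc, fibreMap_hom])
      (by rw [Category.assoc, fibreMap_map]; exact congrArg (fun z => ζ ≫ fibreMap f' hP'.w z) hu₁) _).trans ?_
    refine ((hvals v t K ζ).trans ?_).trans (val_map G (ζ ≫ a) _ _ _ (ζ ≫ κ) (by rw [Category.assoc, fibreMap_hom])
      (by rw [Category.assoc, fibreMap_map]; exact congrArg (fun z => ζ ≫ fibreMap f' hP'.w z) hu₂) t'.1).symm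
    obtain ⟨p, hp⟩ := (ConcreteCategory.bijective_of_isIso (stalkPull g' (ζ ≫ a) F)).2
      (val G (ζ ≫ a) (ζ ≫ κ) (by rw [Category.assoc, fibreMap_hom]) t'.1)
    obtain ⟨N, y, s, hs⟩ := germ_surjective ((ζ ≫ a) ≫ g') F p
    have hτ : At a G τ ζ ζ (Category.comp_id ζ) (ζ ≫ κ) (by rw [Category.assoc, fibreMap_hom]) t'.1 :=
      at_res a G t'.1 m₀ (ζ ≫ κ) _ (congrArg (ζ ≫ ·) (pullback.lift_fst _ _ _))
    have hAt := at_toComp F a g' τ ζ (Category.comp_id ζ) y.left (Over.w y) s (hτ.trans (congrArg _ (by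
      rw [← hp, show val F ((ζ ≫ a) ≫ g') y.left (Over.w y) s = p from hs])))
    have h2 := hAt.val_eq (ht K ζ)
    rw [← hp]
    refine congrArg _ ?_
    exact ((val_congr' F (Category.assoc ζ a g') rfl rfl (ha := Over.w y) (hb := by rw [Category.assoc, fibreMap_hom, Category.assoc])).2 h2).symm.trans hs

include h in
/-- Sections with proper support commute with base change, up to isomorphism. -/
theorem nonempty_iso_baseChange [LocallyOfFiniteType f'] :
    Nonempty ((EtShriek24.shFunctor f').obj ((EtCoh.pull g').obj F) ≅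
      (EtCoh.pull g).obj ((EtShriek24.shFunctor f).obj F)) :=
  (exists_iso_baseChange f F g f' g' h).elim fun φ _ => ⟨φ.symm⟩

include h in
/-- The base change isomorphism of direct images with proper support, compatible with the direct images. -/
theorem exists_lowerShriek_iso_baseChange :
    ∃ φ : (EtCoh.pull g).obj ((EtShriek.lowerShriek f).obj F) ≅
        (EtShriek.lowerShriek f').obj ((EtCoh.pull g').obj F),
      φ.hom ≫ EtShriek.lowerShriekToPush f' ((EtCoh.pull g').obj F) =
        (EtCoh.pull g).map (EtShriek.lowerShriekToPush f F) ≫ EtCoh.baseChange0 f g f' g' h.w F := by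
  haveI : LocallyOfFiniteType f' := MorphismProperty.of_isPullback h ‹LocallyOfFiniteType f›
  obtain ⟨φ, hφ⟩ := exists_iso_baseChange f F g f' g' h
  refine ⟨(EtCoh.pull g).mapIso ((EtShriek24.shIso f).app F) ≪≫ φ ≪≫ ((EtShriek24.shIso f').app _).symm, ?_⟩
  rw [EtShriek24.lowerShriekToPush_eq, EtShriek24.lowerShriekToPush_eq]
  simp only [Iso.trans_hom, Functor.mapIso_hom, Iso.symm_hom, Iso.app_hom, Iso.app_inv, Category.assoc,
    Functor.map_comp, Iso.inv_hom_id_app_assoc, hφ]

end Square

end Groth.Agent.ShriekBC24
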