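import Groth.Agent.Lib.ProperPush24.Main

/-!
# Values at geometric points do not depend on the field of the point
-/

universe u

open CategoryTheory CategoryTheory.Limits AlgebraicGeometry Opposite

set_option backward.isDefEq.respectTransparency.types false

namespace Groth.Agent.ShriekBC24

open Groth.Agent.EtStalk Groth.Agent.Gabber24 Groth.Agent.ConnDescent24 Groth.Agent.ProperPush24

variable {P T : Scheme.{u}} {e : P ⟶ T} {F : EtCoh.Ab T} {U : P.Etale}
  {σ : ((EtCoh.pull e).obj F).obj.obj (op U)}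
  {K L : Type u} [Field K] [IsSepClosed K] [Field L] [IsSepClosed L]

/-- Values can be compared after a field extension of the geometric point. -/
theorem at_comp_iff (ψ : Spec (CommRingCat.of L) ⟶ Spec (CommRingCat.of K))
    {ζ : Spec (CommRingCat.of K) ⟶ P} {a : Spec (CommRingCat.of K) ⟶ U.left} (ha : a ≫ U.hom = ζ)
    {ζ' : Spec (CommRingCat.of L) ⟶ P} {a' : Spec (CommRingCat.of L) ⟶ U.left} (ha' : a' ≫ U.hom = ζ')
    {N : T.Etale} {n : Spec (CommRingCat.of K) ⟶ N.left} (hn : n ≫ N.hom = ζ ≫ e)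
    {n' : Spec (CommRingCat.of L) ⟶ N.left} (hn' : n' ≫ N.hom = ζ' ≫ e)
    (ea : ψ ≫ a = a') (en : ψ ≫ n = n') (s : F.obj.obj (op N)) :
    At e F σ ζ' a' ha' n' hn' s ↔ At e F σ ζ a ha n hn s := by
  let l : Spec (CommRingCat.of K) ⟶ cmpScheme e U N := pullback.lift a n (by
    rw [← Category.assoc, ha, hn])
  have h1 := mem_good_iff e F σ s l ζ a n (pullback.lift_fst _ _ _) (pullback.lift_snd _ _ _) ha hn
  have h2 := mem_good_iff e F σ s (ψ ≫ l) ζ' a' n'
    ((Category.assoc _ _ _).trans ((congrArg (ψ ≫ ·) (pullback.lift_fst _ _ _)).trans ea))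
    ((Category.assoc _ _ _).trans ((congrArg (ψ ≫ ·) (pullback.lift_snd _ _ _)).trans en)) ha' hn'
  have e0 : (ψ ≫ l) default = l default :=
    (Scheme.Hom.comp_apply _ _ _).trans (congrArg l (Subsingleton.elim _ _))
  rw [e0] at h2
  exact h2.symm.trans h1

/-- Equality of values can be checked after a field extension. -/
theorem val_eq_of_comp {X : Scheme.{u}} (G : EtCoh.Ab X) (ψ : Spec (CommRingCat.of L) ⟶ Spec (CommRingCat.of K))
    {ξ : Spec (CommRingCat.of K) ⟶ X} {V W : X.Etale} (a : Spec (CommRingCat.of K) ⟶ V.left)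
    (b : Spec (CommRingCat.of K) ⟶ W.left) (ha : a ≫ V.hom = ξ) (hb : b ≫ W.hom = ξ)
    {ξ' : Spec (CommRingCat.of L) ⟶ X} {a' : Spec (CommRingCat.of L) ⟶ V.left}
    {b' : Spec (CommRingCat.of L) ⟶ W.left} {ha' : a' ≫ V.hom = ξ'} {hb' : b' ≫ W.hom = ξ'}
    (ea : ψ ≫ a = a') (eb : ψ ≫ b = b') (s : G.obj.obj (op V)) (t : G.obj.obj (op W))
    (h : val G ξ' a' ha' s = val G ξ' b' hb' t) : val G ξ a ha s = val G ξ b hb t := by
  have e0 : ψ default = (default : Spec (CommRingCat.of K)) := Subsingleton.elim _ _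
  have eξ : ψ ≫ ξ = ξ' := by rw [← ha', ← ea, Category.assoc, ha]
  have h1 : (default : Spec (CommRingCat.of K)) ∈ same G ha hb s t := by
    rw [← e0, mem_same_iff]
    exact (val_congr' G eξ ea eb).2 h
  rw [← e0, mem_same_iff G ha hb s t ψ] at h1
  have h2 := (mem_same_iff G ha hb s t (𝟙 _)).1 (by
    rw [show (𝟙 (Spec (CommRingCat.of K)) : _ ⟶ _) default = ψ default from Subsingleton.elim _ _,
      mem_same_iff]
    exact h1)
  exact (val_congr' G (Category.id_comp ξ) (Category.id_comp a) (Category.id_comp b)).1 h2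

/-- The value zero. -/
theorem val_zero {X : Scheme.{u}} (G : EtCoh.Ab X) {ξ : Spec (CommRingCat.of K) ⟶ X} {V : X.Etale}
    (a : Spec (CommRingCat.of K) ⟶ V.left) (ha : a ≫ V.hom = ξ) :
    val G ξ a ha (0 : G.obj.obj (op V)) = 0 :=
  map_zero _

/-- A vanishing value of an inverse image forces a vanishing value. -/
theorem at_zero_iff {ζ : Spec (CommRingCat.of K) ⟶ P} {a : Spec (CommRingCat.of K) ⟶ U.left}
    (ha : a ≫ U.hom = ζ) {N : T.Etale} {n : Spec (CommRingCat.of K) ⟶ N.left}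
    (hn : n ≫ N.hom = ζ ≫ e) {s : F.obj.obj (op N)} (h : At e F σ ζ a ha n hn s) :
    val ((EtCoh.pull e).obj F) ζ a ha σ = 0 ↔ val F (ζ ≫ e) n hn s = 0 := by
  constructor
  · intro h0
    apply (ConcreteCategory.bijective_of_isIso (stalkPull e ζ F)).1
    rw [map_zero, ← h0]
    exact h.symm
  · intro h0
    exact h.trans ((congrArg _ h0).trans (map_zero _))

/-- Outside the support the value vanishes. -/
theorem val_eq_zero_iff {X : Scheme.{u}} (G : EtCoh.Ab X) {ξ : Spec (CommRingCat.of K) ⟶ X} {V : X.Etale}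
    (a : Spec (CommRingCat.of K) ⟶ V.left) (ha : a ≫ V.hom = ξ) (s : G.obj.obj (op V)) :
    val G ξ a ha s = 0 ↔ a default ∈ agree G s 0 := by
  have h := mem_agree_iff_germ G (Over.homMk a ha : fib ξ V) s 0
  rw [map_zero] at h
  exact h.symm

/-- A vanishing value vanishes at equal geometric points. -/
theorem val_eq_zero_congr {X : Scheme.{u}} (G : EtCoh.Ab X) {ξ ξ' : Spec (CommRingCat.of K) ⟶ X} (e : ξ = ξ')
    {V : X.Etale} {a : Spec (CommRingCat.of K) ⟶ V.left} {ha : a ≫ V.hom = ξ} {s : G.obj.obj (op V)}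
    (h : val G ξ a ha s = 0) : val G ξ' a (ha.trans e) s = 0 := by
  subst e
  exact h

end Groth.Agent.ShriekBC24
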