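import Groth.Agent.Lib.ShriekBC24.Push
import Groth.Agent.Lib.EtShriek24.Supp
import Groth.Agent.Lib.LocConst24.PushFinEt

/-!
# Extending a section with closed support across a compactification
-/

universe u

open CategoryTheory CategoryTheory.Limits AlgebraicGeometry Opposite

set_option backward.isDefEq.respectTransparency.types false

namespace Groth.Agent.ShriekBC24

open Groth.Agent.EtStalk Groth.Agent.Gabber24 Groth.Agent.ConnDescent24 Groth.Agent.ProperPush24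

variable {X P W' Wb Pb P'' : Scheme.{u}} (pX : P ⟶ X) (F : EtCoh.Ab X)
  (σ : ((EtCoh.pull pX).obj F).obj.obj (op (EtCoh.top P))) (w : W' ⟶ X)
  (j : W' ⟶ Wb) [IsOpenImmersion j] (b : Pb ⟶ Wb) (a : P'' ⟶ W') (θ : P'' ⟶ Pb) (ρ : P'' ⟶ P)

/-- A section near the boundary fibre has the values prescribed by `σ`. -/
def Extends {K : Type u} [Field K] [IsSepClosed K] (ζ : Spec (CommRingCat.of K) ⟶ Pb) {N : Wb.Etale}
    (n : Spec (CommRingCat.of K) ⟶ N.left) (hn : n ≫ N.hom = ζ ≫ b) (hw : ρ ≫ pX = a ≫ w)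
    (hθ : a ≫ j = θ ≫ b) (t : ((EtCoh.push j).obj ((EtCoh.pull w).obj F)).obj.obj (op N)) : Prop :=
  (∀ (m : Spec (CommRingCat.of K) ⟶ P'') (hm : m ≫ θ = ζ) (M : X.Etale)
      (x : Spec (CommRingCat.of K) ⟶ M.left) (hx : x ≫ M.hom = (m ≫ ρ) ≫ pX) (s : F.obj.obj (op M)),
      At pX F σ (m ≫ ρ) (m ≫ ρ) (Category.comp_id _) x hx s →
      At w F (U := (EtCoh.bc j).obj N) t (m ≫ a)
        (pullback.lift n (m ≫ a) (by rw [hn, Category.assoc, hθ, ← Category.assoc, hm]))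
        (pullback.lift_snd _ _ _) x (by rw [hx, Category.assoc, Category.assoc, hw]) s) ∧
    (ζ default ∉ θ '' (ρ ⁻¹' EtShriek.sectSupp ((EtCoh.pull pX).obj F) (EtCoh.top P) σ) →
      val ((EtCoh.push j).obj ((EtCoh.pull w).obj F)) (ζ ≫ b) n hn t = 0)

variable {pX F σ w j b a θ ρ} {hw : ρ ≫ pX = a ≫ w} {hθ : a ≫ j = θ ≫ b}

/-- The prescribed values determine the value. -/
theorem Extends.val_eq [IsOpenImmersion θ] {K : Type u} [Field K] [IsSepClosed K]
    {ζ : Spec (CommRingCat.of K) ⟶ Pb} {N N' : Wb.Etale}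
    {n : Spec (CommRingCat.of K) ⟶ N.left} {hn : n ≫ N.hom = ζ ≫ b}
    {n' : Spec (CommRingCat.of K) ⟶ N'.left} {hn' : n' ≫ N'.hom = ζ ≫ b}
    {t : ((EtCoh.push j).obj ((EtCoh.pull w).obj F)).obj.obj (op N)}
    {t' : ((EtCoh.push j).obj ((EtCoh.pull w).obj F)).obj.obj (op N')}
    (h : Extends pX F σ w j b a θ ρ ζ n hn hw hθ t) (h' : Extends pX F σ w j b a θ ρ ζ n' hn' hw hθ t') :
    val ((EtCoh.push j).obj ((EtCoh.pull w).obj F)) (ζ ≫ b) n hn t =
      val ((EtCoh.push j).obj ((EtCoh.pull w).obj F)) (ζ ≫ b) n' hn' t' := by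
  by_cases hz : ζ default ∈ θ '' (ρ ⁻¹' EtShriek.sectSupp ((EtCoh.pull pX).obj F) (EtCoh.top P) σ)
  · obtain ⟨z, -, hz'⟩ := hz
    obtain ⟨m, hm⟩ := Groth.Agent.LocConst24.comp_eq_of_mem_range θ ζ ⟨z, hz'⟩
    obtain ⟨M, x, hx, s, hs⟩ := exists_at pX F σ (m ≫ ρ) (m ≫ ρ) (Category.comp_id _)
    exact (val_push_iff j _ (m ≫ a) (by rw [Category.assoc, hθ, ← Category.assoc, hm]) n n' hn hn' _ _
      (pullback.lift_snd _ _ _) (pullback.lift_snd _ _ _) (pullback.lift_fst _ _ _) (pullback.lift_fst _ _ _)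
      t t').2 ((h.1 m hm M x hx s hs).trans (h'.1 m hm M x hx s hs).symm)
  · rw [h.2 hz, h'.2 hz]

/-- Sections with the same value extend together. -/
theorem Extends.congr {K : Type u} [Field K] [IsSepClosed K]
    {ζ : Spec (CommRingCat.of K) ⟶ Pb} {N N' : Wb.Etale}
    {n : Spec (CommRingCat.of K) ⟶ N.left} {hn : n ≫ N.hom = ζ ≫ b}
    {n' : Spec (CommRingCat.of K) ⟶ N'.left} {hn' : n' ≫ N'.hom = ζ ≫ b}
    {t : ((EtCoh.push j).obj ((EtCoh.pull w).obj F)).obj.obj (op N)}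
    {t' : ((EtCoh.push j).obj ((EtCoh.pull w).obj F)).obj.obj (op N')}
    (h : Extends pX F σ w j b a θ ρ ζ n hn hw hθ t)
    (he : val ((EtCoh.push j).obj ((EtCoh.pull w).obj F)) (ζ ≫ b) n hn t =
      val ((EtCoh.push j).obj ((EtCoh.pull w).obj F)) (ζ ≫ b) n' hn' t') :
    Extends pX F σ w j b a θ ρ ζ n' hn' hw hθ t' := by
  refine ⟨fun m hm M x hx s hs => ?_, fun hz => he.symm.trans (h.2 hz)⟩
  exact ((val_push_iff j _ (m ≫ a) (by rw [Category.assoc, hθ, ← Category.assoc, hm]) n n' hn hn' _ _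
      (pullback.lift_snd _ _ _) (pullback.lift_snd _ _ _) (pullback.lift_fst _ _ _) (pullback.lift_fst _ _ _)
      t t').1 he).symm.trans (h.1 m hm M x hx s hs)

variable (hw) (hθ)

/-- Around each point of the boundary fibre some local section has the prescribed values. -/
theorem exists_extends_piece [IsOpenImmersion θ] (hsq : IsPullback a θ j b)
    (hC : IsClosed (θ '' (ρ ⁻¹' EtShriek.sectSupp ((EtCoh.pull pX).obj F) (EtCoh.top P) σ))) (z : Pb) :
    ∃ (N : Wb.Etale) (t : ((EtCoh.push j).obj ((EtCoh.pull w).obj F)).obj.obj (op N))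
      (A : ((EtCoh.bc b).obj N).left.Opens),
      (∃ y : A.toScheme, ((EtCoh.bc b).obj N).hom (A.ι y) = z) ∧
      ∀ (K : Type u) [Field K] [IsSepClosed K] (c : Spec (CommRingCat.of K) ⟶ A.toScheme)
        (ζ : Spec (CommRingCat.of K) ⟶ Pb) (hζ : (c ≫ A.ι) ≫ ((EtCoh.bc b).obj N).hom = ζ)
        (hn : (c ≫ A.ι ≫ bcFst b N) ≫ N.hom = ζ ≫ b),
        Extends pX F σ w j b a θ ρ ζ (c ≫ A.ι ≫ bcFst b N) hn hw hθ t := by
  let Z := EtShriek.sectSupp ((EtCoh.pull pX).obj F) (EtCoh.top P) σ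
  let C : Set Pb := θ '' (ρ ⁻¹' Z)
  let G := (EtCoh.pull w).obj F
  let E := (EtCoh.push j).obj G
  by_cases hz : z ∈ C
  swap
  · let O : Pb.Opens := ⟨Cᶜ, hC.isOpen_compl⟩
    let M₀ := (EtCoh.bc b).obj (EtCoh.top Wb)
    refine ⟨EtCoh.top Wb, 0, M₀.hom ⁻¹ᵁ O, ?_, fun K _ _ c ζ hζ hn => ⟨fun m hm M x hx s hs => ?_,
      fun _ => val_zero E _ hn⟩⟩
    · let l : Pb ⟶ M₀.left := pullback.lift b (𝟙 Pb) (by rw [Category.id_comp]; exact Category.comp_id b)
      have hlh : l ≫ M₀.hom = 𝟙 Pb := pullback.lift_snd _ _ _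
      refine ⟨⟨l z, ?_⟩, ?_⟩
      · show M₀.hom (l z) ∈ O
        rw [← Scheme.Hom.comp_apply, hlh]
        exact hz
      · exact (Scheme.Hom.comp_apply l M₀.hom z).symm.trans (congrArg (fun r => r z) hlh)
    · have hout : (m ≫ ρ) default ∉ Z := by
        intro hmem
        have h1 : ζ default ∈ C := by
          rw [← hm, Scheme.Hom.comp_apply]
          refine ⟨_, ?_, rfl⟩
          rw [Set.mem_preimage, ← Scheme.Hom.comp_apply]
          exact hmem
        rw [← hζ, Scheme.Hom.comp_apply, Scheme.Hom.comp_apply] at h1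
        exact (c default).2 h1
      have hσ0 : val ((EtCoh.pull pX).obj F) (m ≫ ρ) (m ≫ ρ) (Category.comp_id _) σ = 0 := by
        rw [val_eq_zero_iff]
        by_contra hne
        exact hout (by rw [show Z = _ from EtShriek24.sectSupp_eq _ _ _]; exact hne)
      have hs0 := (at_zero_iff (Category.comp_id _) hx hs).1 hσ0
      have hx' : x ≫ M.hom = (m ≫ a) ≫ w := by rw [hx, Category.assoc, Category.assoc, hw]
      have hs0' : val F ((m ≫ a) ≫ w) x hx' s = 0 :=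
        val_eq_zero_congr F (show (m ≫ ρ) ≫ pX = (m ≫ a) ≫ w by rw [Category.assoc, Category.assoc, hw]) hs0
      exact (val_zero G _ _).trans ((congrArg _ hs0').trans (map_zero _)).symm
  · obtain ⟨p, -, hpz⟩ := hz
    let g := geomPt P'' p
    obtain ⟨N, n, hn, s, hs⟩ := exists_at pX F σ (g ≫ ρ) (g ≫ ρ) (Category.comp_id _)
    haveI : AlgebraicGeometry.Etale j := inferInstance
    let N₁ := (EtCoh.bc w).obj N
    let Nb := (EtShriek.compEtale j).obj N₁
    let κ : (EtCoh.bc j).obj Nb ⟶ N₁ := MorphismProperty.Over.homMk (pullback.fst (N₁.hom ≫ j) j) (by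
      show pullback.fst (N₁.hom ≫ j) j ≫ N₁.hom = pullback.snd (N₁.hom ≫ j) j
      rw [← cancel_mono j, Category.assoc, pullback.condition])
    let e : E.obj.obj (op Nb) := G.obj.map κ.op (res w F s)
    let M₀ := (EtCoh.bc b).obj Nb
    let toN₁ : M₀.left ⟶ N₁.left := bcFst b Nb
    have hcd : (toN₁ ≫ N₁.hom) ≫ j = M₀.hom ≫ b :=
      (Category.assoc _ _ _).trans pullback.condition
    let μ : M₀.left ⟶ P'' := hsq.lift (toN₁ ≫ N₁.hom) M₀.hom hcd
    have hμa : μ ≫ a = toN₁ ≫ N₁.hom := hsq.lift_fst _ _ _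
    have hμθ : μ ≫ θ = M₀.hom := hsq.lift_snd _ _ _
    let ν : M₀.left ⟶ N.left := toN₁ ≫ bcFst w N
    have hνX : ν ≫ N.hom = (μ ≫ ρ) ≫ pX := by
      simp only [ν, Category.assoc]
      rw [hw, ← Category.assoc μ, hμa, Category.assoc]
      exact congrArg (toN₁ ≫ ·) pullback.condition
    let ν' : M₀.left ⟶ ((EtCoh.bc pX).obj N).left := pullback.lift ν (μ ≫ ρ) hνX
    have hν' : ν' ≫ ((EtCoh.bc pX).obj N).hom = μ ≫ ρ := pullback.lift_snd _ _ _
    let D : M₀.left.Opens := ⟨same ((EtCoh.pull pX).obj F) (V := EtCoh.top P) (a := μ ≫ ρ) (b := ν')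
      (Category.comp_id _) hν' σ (res pX F s), isOpen_same _ _ _ _ _⟩
    have hD : ∀ (K : Type u) [Field K] [IsSepClosed K] (c : Spec (CommRingCat.of K) ⟶ M₀.left)
        (hx : (c ≫ ν) ≫ N.hom = (c ≫ μ ≫ ρ) ≫ pX),
        c default ∈ D ↔ At pX F σ (c ≫ μ ≫ ρ) (c ≫ μ ≫ ρ) (Category.comp_id _) (c ≫ ν) hx s := by
      intro K _ _ c hx
      refine (mem_same_iff ((EtCoh.pull pX).obj F) (V := EtCoh.top P) (a := μ ≫ ρ) (b := ν')
        (Category.comp_id _) hν' σ (res pX F s) c).trans ?_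
      have hr := val_res pX F (c ≫ μ ≫ ρ) (c ≫ ν) hx (c ≫ ν') (by rw [Category.assoc, hν'])
        (by rw [Category.assoc]; exact congrArg (c ≫ ·) (pullback.lift_fst _ _ _)) s
      exact ⟨fun h => h.trans hr, fun h => h.trans hr.symm⟩
    refine ⟨Nb, e, D, ?_, fun K _ _ c ζ hζ hn' => ?_⟩
    · let l₁ : Spec (CommRingCat.of _) ⟶ N₁.left := pullback.lift n (g ≫ a) (by
        rw [hn, Category.assoc, Category.assoc, hw])
      have hl₁ : l₁ ≫ N₁.hom = g ≫ a := pullback.lift_snd _ _ _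
      let l : Spec (CommRingCat.of _) ⟶ M₀.left := pullback.lift l₁ (g ≫ θ) (by
        show l₁ ≫ N₁.hom ≫ j = (g ≫ θ) ≫ b
        rw [← Category.assoc, hl₁, Category.assoc, hθ, Category.assoc])
      have hlμ : l ≫ μ = g := by
        rw [← cancel_mono θ, Category.assoc, hμθ]
        exact pullback.lift_snd _ _ _
      have hlν : l ≫ ν = n := by
        simp only [ν]
        rw [← Category.assoc, show l ≫ toN₁ = l₁ from pullback.lift_fst _ _ _]
        exact pullback.lift_fst _ _ _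
      have hx : (l ≫ ν) ≫ N.hom = (l ≫ μ ≫ ρ) ≫ pX := by rw [hlν, ← Category.assoc l, hlμ, hn]
      have hlD : l default ∈ D := (hD _ l hx).2
        ((at_comp_iff (𝟙 _) (Category.comp_id _) (Category.comp_id _) hn hx
          (by rw [Category.id_comp, ← Category.assoc, hlμ]) (by rw [Category.id_comp, hlν]) s).2 hs)
      refine ⟨⟨_, hlD⟩, ?_⟩
      show M₀.hom (l default) = z
      rw [← Scheme.Hom.comp_apply, show l ≫ M₀.hom = g ≫ θ from pullback.lift_snd _ _ _, Scheme.Hom.comp_apply,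
        geomPt_default, hpz]
    · let c₀ := c ≫ D.ι
      have hmθ : (c₀ ≫ μ) ≫ θ = ζ := by rw [Category.assoc, hμθ]; exact hζ
      have hx : (c₀ ≫ ν) ≫ N.hom = (c₀ ≫ μ ≫ ρ) ≫ pX := by
        simp only [Category.assoc, hνX]
      have hσ := (hD K c₀ hx).1 (c default).2
      have hx' : (c₀ ≫ ν) ≫ N.hom = ((c₀ ≫ μ) ≫ a) ≫ w := by
        rw [hx]; simp only [Category.assoc, hw]
      let l : Spec (CommRingCat.of K) ⟶ ((EtCoh.bc j).obj Nb).left :=
        pullback.lift (c ≫ D.ι ≫ bcFst b Nb) ((c₀ ≫ μ) ≫ a) (by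
          rw [hn', Category.assoc (c₀ ≫ μ), hθ, ← Category.assoc, hmθ])
      have he : At w F (U := (EtCoh.bc j).obj Nb) e ((c₀ ≫ μ) ≫ a) l (pullback.lift_snd _ _ _) (c₀ ≫ ν) hx' s :=
        at_res w F s κ (c₀ ≫ ν) hx' (by
          rw [← Category.assoc]
          refine (congrArg (· ≫ bcFst w N) (pullback.lift_fst _ _ _)).trans ?_
          simp only [c₀, ν, toN₁, Category.assoc]
          exact Category.assoc _ _ _)
      refine ⟨fun m hm M x hxM s' hs' => ?_, fun hz' => ?_⟩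
      · obtain rfl : m = c₀ ≫ μ := by rw [← cancel_mono θ, hm, hmθ]
        refine he.congr ?_
        have e2 := At.val_eq ((at_comp_iff (𝟙 _) (Category.comp_id (c₀ ≫ μ ≫ ρ)) (Category.comp_id ((c₀ ≫ μ) ≫ ρ))
          hx (by rw [hx]; simp only [Category.assoc]) (by rw [Category.id_comp]; simp only [c₀, Category.assoc]) (Category.id_comp _) s).2 hσ) hs'
        exact (val_congr' F (show ((c₀ ≫ μ) ≫ ρ) ≫ pX = ((c₀ ≫ μ) ≫ a) ≫ w by
          simp only [Category.assoc, hw]) rfl rfl).1 e2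
      · have hout : (c₀ ≫ μ ≫ ρ) default ∉ Z := by
          intro hmem
          apply hz'
          rw [← hmθ, Scheme.Hom.comp_apply]
          refine ⟨_, ?_, rfl⟩
          rw [Set.mem_preimage, ← Scheme.Hom.comp_apply, Category.assoc]
          exact hmem
        have hσ0 : val ((EtCoh.pull pX).obj F) (c₀ ≫ μ ≫ ρ) (c₀ ≫ μ ≫ ρ) (Category.comp_id _) σ = 0 := by
          rw [val_eq_zero_iff]
          by_contra hne
          exact hout (by rw [show Z = _ from EtShriek24.sectSupp_eq _ _ _]; exact hne)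
        have hs0 := (at_zero_iff (Category.comp_id _) hx hσ).1 hσ0
        have hs0' : val F (((c₀ ≫ μ) ≫ a) ≫ w) (c₀ ≫ ν) hx' s = 0 :=
          val_eq_zero_congr F (show (c₀ ≫ μ ≫ ρ) ≫ pX = ((c₀ ≫ μ) ≫ a) ≫ w by simp only [Category.assoc, hw]) hs0
        have hG0 : val G ((c₀ ≫ μ) ≫ a) l (pullback.lift_snd _ _ _) e = 0 :=
          he.trans ((congrArg _ hs0').trans (map_zero _))
        refine ((val_push_iff j G ((c₀ ≫ μ) ≫ a) (by rw [Category.assoc, hθ, ← Category.assoc, hmθ]) _ _ hn' hn'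
          l l (pullback.lift_snd _ _ _) (pullback.lift_snd _ _ _) (pullback.lift_fst _ _ _) (pullback.lift_fst _ _ _)
          e (0 : E.obj.obj (op Nb))).2 (hG0.trans (val_zero G _ _).symm)).trans (val_zero E _ _)

/-- The section near the boundary fibre with the prescribed values. -/
theorem exists_extension [IsOpenImmersion θ] (hsq : IsPullback a θ j b)
    (hC : IsClosed (θ '' (ρ ⁻¹' EtShriek.sectSupp ((EtCoh.pull pX).obj F) (EtCoh.top P) σ))) :
    ∃ σb : ((EtCoh.pull b).obj ((EtCoh.push j).obj ((EtCoh.pull w).obj F))).obj.obj (op (EtCoh.top Pb)),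
      ∀ (K : Type u) [Field K] [IsSepClosed K] (ζ : Spec (CommRingCat.of K) ⟶ Pb) (N : Wb.Etale)
        (n : Spec (CommRingCat.of K) ⟶ N.left) (hn : n ≫ N.hom = ζ ≫ b)
        (t : ((EtCoh.push j).obj ((EtCoh.pull w).obj F)).obj.obj (op N)),
        At b ((EtCoh.push j).obj ((EtCoh.pull w).obj F)) σb ζ ζ (Category.comp_id ζ) n hn t →
        Extends pX F σ w j b a θ ρ ζ n hn hw hθ t := by
  let E := (EtCoh.push j).obj ((EtCoh.pull w).obj F)
  choose N t A hA hext using exists_extends_piece hw hθ hsq hC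
  choose y hy using hA
  let M : Pb → Pb.Etale := fun z => EtSite.sub ((EtCoh.bc b).obj (N z)) (A z)
  let g : ∀ z, M z ⟶ EtCoh.top Pb := fun z => MorphismProperty.Over.homMk (M z).hom (Category.comp_id _)
  let sec : ∀ z, ((EtCoh.pull b).obj E).obj.obj (op (M z)) := fun z =>
    ((EtCoh.pull b).obj E).obj.map (EtSite.subHom ((EtCoh.bc b).obj (N z)) (A z)).op (res b E (t z))
  have hat : ∀ (z : Pb) (K : Type u) [Field K] [IsSepClosed K] (c : Spec (CommRingCat.of K) ⟶ (M z).left)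
      (ζ : Spec (CommRingCat.of K) ⟶ Pb) (hc : c ≫ (M z).hom = ζ),
      ∃ hn, At b E (sec z) ζ c hc (c ≫ (A z).ι ≫ bcFst b (N z)) hn (t z) ∧
        Extends pX F σ w j b a θ ρ ζ (c ≫ (A z).ι ≫ bcFst b (N z)) hn hw hθ (t z) := by
    intro z K _ _ c ζ hc
    have hζ : (c ≫ (A z).ι) ≫ ((EtCoh.bc b).obj (N z)).hom = ζ := (Category.assoc _ _ _).trans hc
    have hn : (c ≫ (A z).ι ≫ bcFst b (N z)) ≫ (N z).hom = ζ ≫ b := by
      rw [← hζ]
      simp only [Category.assoc]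
      exact congrArg (c ≫ (A z).ι ≫ ·) pullback.condition
    exact ⟨hn, at_res b E (t z) _ _ hn rfl, hext z K c ζ hζ hn⟩
  obtain ⟨σb, hσb⟩ := exists_glue ((EtCoh.pull b).obj E) (U := EtCoh.top Pb) M g sec
    (fun z => ⟨z, y z, hy z⟩) (by
      intro k l K _ _ ζ c d _ hc hd
      obtain ⟨hn, h1, h2⟩ := hat k K c ζ hc
      obtain ⟨hn', h1', h2'⟩ := hat l K d ζ hd
      exact h1.trans ((congrArg _ (h2.val_eq h2')).trans h1'.symm))
  refine ⟨σb, fun K _ _ ζ N' n hn' t' hAt => ?_⟩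
  obtain ⟨x, -, hx⟩ : ∃ x : ((M (ζ default)).left), True ∧ (M (ζ default)).hom x = ζ default :=
    ⟨y _, trivial, hy _⟩
  haveI : AlgebraicGeometry.Etale (M (ζ default)).hom := (M (ζ default)).prop
  obtain ⟨φ, -⟩ := Scheme.pointSmallEtaleFiberObjToPreimage_surjective ζ (s₀ := ζ default) rfl
    (M (ζ default)) ⟨x, hx⟩
  let c : Spec (CommRingCat.of K) ⟶ (M (ζ default)).left := φ.left
  have hc : c ≫ (M (ζ default)).hom = ζ := Over.w φ
  obtain ⟨hn, h1, h2⟩ := hat _ K c ζ hc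
  refine h2.congr ?_
  apply (ConcreteCategory.bijective_of_isIso (stalkPull b ζ E)).1
  refine h1.symm.trans (Eq.trans ?_ hAt)
  show val _ ζ c hc (sec _) = _
  rw [← hσb]
  exact val_map _ ζ (g _) c hc ζ _ hc σb

end Groth.Agent.ShriekBC24
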