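import Groth.Agent.S7409
import Groth.Agent.Lib.ProjSpace.Basic

/-!
# Compactifiable neighbourhoods after a proper surjection
-/

universe u

open CategoryTheory CategoryTheory.Limits AlgebraicGeometry Opposite

namespace Groth.Agent.ShriekBC24

/-- A compact set lies in an open which becomes compactifiable after a proper surjection. -/
theorem exists_chart {X S : Scheme.{u}} (p : X ⟶ S) [IsAffine S] [IsSeparated p] [LocallyOfFiniteType p]
    (C : Set X) (hC : IsCompact C) :
    ∃ (W : X.Opens) (W' Wb : Scheme.{u}) (π₀ : W' ⟶ W.toScheme) (j : W' ⟶ Wb) (fb : Wb ⟶ S),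
      C ⊆ W ∧ IsProper π₀ ∧ Surjective π₀ ∧ IsOpenImmersion j ∧ IsProper fb ∧
        j ≫ fb = π₀ ≫ W.ι ≫ p := by
  classical
  choose A hA hxA _ using fun x : X => exists_isAffineOpen_mem_and_subset (x := x) (U := ⊤) trivial
  obtain ⟨s, hs⟩ := hC.elim_finite_subcover (fun x : X => (A x : Set X)) (fun x => (A x).isOpen)
    fun x _ => Set.mem_iUnion.2 ⟨x, hxA x⟩
  let W : X.Opens := ⨆ x : {x // x ∈ s}, A x.1
  have hW : IsCompact (W : Set X) := by
    rw [TopologicalSpace.Opens.coe_iSup]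
    exact isCompact_iUnion fun x => (hA x.1).isCompact
  haveI : CompactSpace W.toScheme := isCompact_iff_compactSpace.1 hW
  haveI : QuasiCompact (W.ι ≫ p) := (quasiCompact_iff_compactSpace _).2 inferInstance
  obtain ⟨n, W', π₀, l, hl, hle, hπ, hs'⟩ := Groth.Agent.S7409.result (W.ι ≫ p)
  haveI := hl
  haveI := hπ
  haveI := hs'
  haveI : QuasiCompact l := by
    haveI : QuasiCompact (l ≫ CohB1.ProjSpaceOver.toBase n S) := by rw [hle]; infer_instance
    exact QuasiCompact.of_comp l (CohB1.ProjSpaceOver.toBase n S)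
  refine ⟨W, W', l.image, π₀, l.toImage, l.imageι ≫ CohB1.ProjSpaceOver.toBase n S, ?_, hπ, hs',
    inferInstance, inferInstance, ?_⟩
  · intro x hx
    obtain ⟨i, hi, hxi⟩ := Set.mem_iUnion₂.1 (hs hx)
    rw [TopologicalSpace.Opens.coe_iSup]
    exact Set.mem_iUnion.2 ⟨⟨i, hi⟩, hxi⟩
  · rw [Scheme.Hom.toImage_imageι_assoc, hle]

end Groth.Agent.ShriekBC24
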