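import Groth.Agent.Lib.ShriekBC24.AtExt
import Groth.Agent.Lib.EtShriek24.Supp

/-!
# Descent of sections with proper support along proper surjections
-/

universe u

open CategoryTheory CategoryTheory.Limits AlgebraicGeometry Opposite

set_option backward.isDefEq.respectTransparency.types false

namespace Groth.Agent.ShriekBC24

open Groth.Agent.EtStalk Groth.Agent.Gabber24 Groth.Agent.ConnDescent24 Groth.Agent.ProperPush24

/-- A geometric point of a nonempty fibre product. -/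
theorem exists_geom_over {A B C : Scheme.{u}} (π : A ⟶ B) (g : C ⟶ B) (c : C) (x : A) (hx : π x = g c) :
    ∃ z : (pullback π g : Scheme.{u}), pullback.snd π g z = c := by
  obtain ⟨z, -, hz⟩ := Scheme.Pullback.exists_preimage_pullback (f := π) (g := g) x c hx
  exact ⟨z, hz⟩

variable {X S W' : Scheme.{u}} (B : X.Etale) (p : B.left ⟶ S) [LocallyOfFiniteType p]
  (F : EtCoh.Ab X) (w : W' ⟶ X) (U : W'.Etale)
  (τ : ((EtCoh.pull w).obj F).obj.obj (op U))
  (W : B.left.Opens) (π₀ : U.left ⟶ W.toScheme) [IsProper π₀] [Surjective π₀]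

/-- The local sections matching a given section upstairs. -/
def GoodPiece {N : X.Etale} (h : N ⟶ B) (hπ : U.hom ≫ w = π₀ ≫ W.ι ≫ B.hom) (s : F.obj.obj (op N)) : Prop :=
  (∀ (K : Type u) [Field K] [IsSepClosed K] (a : Spec (CommRingCat.of K) ⟶ U.left)
      (c : Spec (CommRingCat.of K) ⟶ N.left) (e : a ≫ π₀ ≫ W.ι = c ≫ h.left),
      At w F τ (a ≫ U.hom) a rfl c (by
        rw [← MorphismProperty.Over.w h, ← Category.assoc, ← e]
        simp only [Category.assoc]
        rw [hπ]) s) ∧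
    ∀ y : N.left, h.left y ∉ W → y ∈ agree F s 0

variable {B p F w U τ W π₀} {hπ : U.hom ≫ w = π₀ ≫ W.ι ≫ B.hom}

omit [LocallyOfFiniteType p] [IsProper π₀] in
/-- A geometric point downstairs lifts after an extension. -/
theorem exists_lift_geom {N : X.Etale} (h : N ⟶ B) {K : Type u} [Field K] [IsSepClosed K]
    (c : Spec (CommRingCat.of K) ⟶ N.left) (hW : h.left (c default) ∈ W) :
    ∃ (K' : Type u) (_ : Field K') (_ : IsSepClosed K') (ψ : Spec (CommRingCat.of K') ⟶ Spec (CommRingCat.of K))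
      (a : Spec (CommRingCat.of K') ⟶ U.left), a ≫ π₀ ≫ W.ι = (ψ ≫ c) ≫ h.left := by
  obtain ⟨u', hu'⟩ := π₀.surjective ⟨_, hW⟩
  obtain ⟨z, -⟩ := exists_geom_over (π₀ ≫ W.ι) (c ≫ h.left) default u'
    ((Scheme.Hom.comp_apply π₀ W.ι u').trans ((congrArg W.ι hu').trans (Scheme.Hom.comp_apply c h.left default).symm))
  let g := geomPt _ z
  refine ⟨_, inferInstance, inferInstance, g ≫ pullback.snd (π₀ ≫ W.ι) (c ≫ h.left),
    g ≫ pullback.fst (π₀ ≫ W.ι) (c ≫ h.left), ?_⟩
  exact (Category.assoc _ _ _).trans ((congrArg (g ≫ ·) pullback.condition).trans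
    ((Category.assoc _ _ _).symm.trans (Category.assoc _ _ _).symm))

omit [LocallyOfFiniteType p] [IsProper π₀] in
/-- Matching local sections have the same values. -/
theorem GoodPiece.compat {N N' : X.Etale} {h : N ⟶ B} {h' : N' ⟶ B} {s : F.obj.obj (op N)}
    {s' : F.obj.obj (op N')} (hs : GoodPiece B F w U τ W π₀ h hπ s) (hs' : GoodPiece B F w U τ W π₀ h' hπ s')
    {K : Type u} [Field K] [IsSepClosed K] {ζ : Spec (CommRingCat.of K) ⟶ X}
    (a : Spec (CommRingCat.of K) ⟶ N.left) (b : Spec (CommRingCat.of K) ⟶ N'.left)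
    (e : a ≫ h.left = b ≫ h'.left) (ha : a ≫ N.hom = ζ) (hb : b ≫ N'.hom = ζ) :
    val F ζ a ha s = val F ζ b hb s' := by
  by_cases hW : h.left (a default) ∈ W
  · obtain ⟨K', _, _, ψ, c, e₁⟩ := exists_lift_geom (π₀ := π₀) h a hW
    have e₂ : c ≫ π₀ ≫ W.ι = (ψ ≫ b) ≫ h'.left :=
      e₁.trans ((Category.assoc _ _ _).trans ((congrArg (ψ ≫ ·) e).trans (Category.assoc _ _ _).symm))
    exact val_eq_of_comp F ψ a b ha hb rfl rfl _ _ ((hs.1 _ c (ψ ≫ a) e₁).val_eq (hs'.1 _ c (ψ ≫ b) e₂))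
  · rw [(val_eq_zero_iff F a ha s).2 (hs.2 _ hW), (val_eq_zero_iff F b hb s').2 (hs'.2 _ (by
      rwa [← Scheme.Hom.comp_apply, ← e, Scheme.Hom.comp_apply]))]

omit [LocallyOfFiniteType p] [IsProper π₀] in
/-- A matching local section vanishes off the image of the support. -/
theorem GoodPiece.val_eq_zero {N : X.Etale} {h : N ⟶ B} {s : F.obj.obj (op N)}
    (hs : GoodPiece B F w U τ W π₀ h hπ s) {K : Type u} [Field K] [IsSepClosed K]
    {ζ : Spec (CommRingCat.of K) ⟶ X} (c : Spec (CommRingCat.of K) ⟶ N.left) (hc : c ≫ N.hom = ζ)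
    (hK : h.left (c default) ∉ ⇑(π₀ ≫ W.ι) '' EtShriek.sectSupp ((EtCoh.pull w).obj F) U τ) :
    val F ζ c hc s = 0 := by
  by_cases hW : h.left (c default) ∈ W
  swap
  · exact (val_eq_zero_iff F c hc s).2 (hs.2 _ hW)
  obtain ⟨K', _, _, ψ, a, e₂⟩ := exists_lift_geom (π₀ := π₀) h c hW
  have ha0 : (π₀ ≫ W.ι) (a default) = h.left (c default) := by
    rw [← Scheme.Hom.comp_apply a, e₂, Scheme.Hom.comp_apply, Scheme.Hom.comp_apply,
      Subsingleton.elim (ψ default) default]
  have hX : (ψ ≫ c) ≫ N.hom = (a ≫ U.hom) ≫ w := by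
    rw [← MorphismProperty.Over.w h, ← Category.assoc, ← e₂]
    simp only [Category.assoc]
    rw [hπ]
  have hz : val ((EtCoh.pull w).obj F) (a ≫ U.hom) a rfl τ = 0 := by
    rw [val_eq_zero_iff]
    by_contra hn
    exact hK ⟨_, by rw [EtShriek24.sectSupp_eq]; exact hn, ha0⟩
  have h0 := (at_zero_iff (ζ := a ≫ U.hom) rfl hX (hs.1 _ a (ψ ≫ c) e₂)).1 hz
  have h0' := val_eq_of_comp F ψ c c hc hc (ha' := hX) (hb' := hX) rfl rfl s 0
    (h0.trans (val_zero F _ _).symm)
  exact h0'.trans (val_zero F _ _)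

set_option maxHeartbeats 1000000 in
/-- Matching local sections on a covering glue to a matching section. -/
theorem GoodPiece.glue {UB : X.Etale} (ι : UB ⟶ B) (hmem : ∀ y : UB.left, ∃ (N : X.Etale) (n : N.left) (h : N ⟶ B)
      (s : F.obj.obj (op N)), h.left n = ι.left y ∧ GoodPiece B F w U τ W π₀ h hπ s) :
    ∃ t : F.obj.obj (op UB), GoodPiece B F w U τ W π₀ ι hπ t := by
  choose N n h s hn hg using hmem
  obtain ⟨t, ht⟩ := exists_glue F (U := UB) (fun y => fibProd (h y) ι) (fun y => fibProdSnd (h y) ι)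
    (fun y => F.obj.map (fibProdFst (h y) ι).op (s y)) (fun z => by
      obtain ⟨m, -, hm⟩ := Scheme.Pullback.exists_preimage_pullback (f := (h z).left) (g := ι.left) (n z) z (hn z)
      exact ⟨z, m, hm⟩) (by
      intro k l K _ _ ζ a b e ha hb
      have ha₁ : (a ≫ (fibProdFst (h k) ι).left) ≫ (N k).hom = ζ := by
        rw [Category.assoc, MorphismProperty.Over.w, ha]
      have hb₁ : (b ≫ (fibProdFst (h l) ι).left) ≫ (N l).hom = ζ := by
        rw [Category.assoc, MorphismProperty.Over.w, hb]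
      rw [val_map F ζ _ a ha _ ha₁ rfl, val_map F ζ _ b hb _ hb₁ rfl]
      refine (hg k).compat (hg l) _ _ ?_ ha₁ hb₁
      simp only [Category.assoc]
      refine (congrArg (a ≫ ·) pullback.condition).trans (Eq.trans ?_ (congrArg (b ≫ ·) pullback.condition).symm)
      exact (Category.assoc _ _ _).symm.trans ((congrArg (· ≫ ι.left) e).trans (Category.assoc _ _ _)))
  have hval : ∀ (y : UB.left) (K : Type u) [Field K] [IsSepClosed K]
      (c₁ : Spec (CommRingCat.of K) ⟶ (N y).left) (c₂ : Spec (CommRingCat.of K) ⟶ UB.left)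
      (e : c₁ ≫ (h y).left = c₂ ≫ ι.left) (ξ : Spec (CommRingCat.of K) ⟶ X)
      (hc₁ : c₁ ≫ (N y).hom = ξ) (hc₂ : c₂ ≫ UB.hom = ξ),
      val F ξ c₂ hc₂ t = val F ξ c₁ hc₁ (s y) := by
    intro y K _ _ c₁ c₂ e ξ hc₁ hc₂
    let c : Spec (CommRingCat.of K) ⟶ (fibProd (h y) ι).left := pullback.lift c₁ c₂ e
    have hc : c ≫ (fibProd (h y) ι).hom = ξ := by
      rw [← MorphismProperty.Over.w (fibProdFst (h y) ι), ← Category.assoc,
        show c ≫ (fibProdFst (h y) ι).left = c₁ from pullback.lift_fst _ _ _, hc₁]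
    rw [← val_map F ξ (fibProdSnd (h y) ι) c hc c₂ hc₂ (pullback.lift_snd _ _ _) t, ht y]
    exact val_map F ξ (fibProdFst (h y) ι) c hc c₁ hc₁ (pullback.lift_fst _ _ _) (s y)
  have hpt : ∀ (K : Type u) [Field K] [IsSepClosed K] (c : Spec (CommRingCat.of K) ⟶ UB.left),
      ∃ (K' : Type u) (_ : Field K') (_ : IsSepClosed K')
        (ψ : Spec (CommRingCat.of K') ⟶ Spec (CommRingCat.of K))
        (c₁ : Spec (CommRingCat.of K') ⟶ (N (c default)).left),
        c₁ ≫ (h (c default)).left = (ψ ≫ c) ≫ ι.left := by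
    intro K _ _ c
    obtain ⟨z, -⟩ := exists_geom_over (h (c default)).left (c ≫ ι.left) default (n (c default))
      ((hn _).trans (Scheme.Hom.comp_apply c ι.left default).symm)
    exact ⟨_, inferInstance, inferInstance, geomPt _ z ≫ pullback.snd _ _, geomPt _ z ≫ pullback.fst _ _,
      (Category.assoc _ _ _).trans ((congrArg (geomPt _ z ≫ ·) pullback.condition).trans
        ((Category.assoc _ _ _).symm.trans (Category.assoc _ _ _).symm))⟩
  refine ⟨t, fun K _ _ a c e => ?_, fun y hy => ?_⟩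
  · obtain ⟨K', _, _, ψ, c₁, e₁⟩ := hpt K c
    have e₂ : (ψ ≫ a) ≫ π₀ ≫ W.ι = c₁ ≫ (h (c default)).left :=
      (Category.assoc _ _ _).trans ((congrArg (ψ ≫ ·) e).trans ((Category.assoc _ _ _).symm.trans e₁.symm))
    have hX : (ψ ≫ c) ≫ UB.hom = ((ψ ≫ a) ≫ U.hom) ≫ w := by
      rw [← MorphismProperty.Over.w ι, ← Category.assoc, ← e₁, ← e₂]
      simp only [Category.assoc]
      rw [hπ]
    have h₀ := ((hg _).1 _ (ψ ≫ a) c₁ e₂).congr (hval _ _ c₁ (ψ ≫ c) e₁ _ _ hX).symm
    exact (at_comp_iff ψ (ζ := a ≫ U.hom) rfl rfl (n := c) _ _ rfl rfl t).1 h₀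
  · obtain ⟨φ, hφ⟩ := exists_fib UB y
    let c : Spec (CommRingCat.of _) ⟶ UB.left := φ.left
    obtain ⟨K', _, _, ψ, c₁, e₁⟩ := hpt _ c
    have hy' : c default = y := hφ
    have hW : (h (c default)).left (c₁ default) ∉ W := by
      rw [← Scheme.Hom.comp_apply, e₁, Scheme.Hom.comp_apply, Scheme.Hom.comp_apply,
        Subsingleton.elim (ψ default) default, hy']
      exact hy
    rw [← hy', ← val_eq_zero_iff F c rfl t]
    have h2 : (ψ ≫ c) ≫ UB.hom = ψ ≫ c ≫ UB.hom := Category.assoc _ _ _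
    have h1 : c₁ ≫ (N (c default)).hom = ψ ≫ c ≫ UB.hom := by
      rw [← MorphismProperty.Over.w (h (c default)), ← Category.assoc, e₁, Category.assoc,
        MorphismProperty.Over.w, Category.assoc]
    have h3 : val F (ψ ≫ c ≫ UB.hom) (ψ ≫ c) h2 t = val F (ψ ≫ c ≫ UB.hom) (ψ ≫ c) h2 0 :=
      (hval _ _ c₁ (ψ ≫ c) e₁ _ h1 h2).trans
        (((val_eq_zero_iff F c₁ h1 _).2 ((hg _).2 _ hW)).trans (val_zero F _ _).symm)
    exact (val_eq_of_comp F ψ c c rfl rfl rfl rfl t 0 h3).trans (val_zero F _ _)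

variable (B p F w U τ W π₀)

set_option maxHeartbeats 1000000 in
/-- Sections with proper support descend along proper surjections near a fibre on which they descend. -/
theorem exists_descent (hπ : U.hom ≫ w = π₀ ≫ W.ι ≫ B.hom)
    (hK : ClSub.IsProperOver p (⇑(π₀ ≫ W.ι) '' EtShriek.sectSupp ((EtCoh.pull w).obj F) U τ)) (v : S)
    (hfib : ∀ x ∈ W, p x = v → ∃ (N : X.Etale) (n : N.left) (h : N ⟶ B) (s : F.obj.obj (op N)),
      h.left n = x ∧ ∀ (K : Type u) [Field K] [IsSepClosed K] (a : Spec (CommRingCat.of K) ⟶ U.left)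
        (c : Spec (CommRingCat.of K) ⟶ N.left) (e : a ≫ π₀ ≫ W.ι = c ≫ h.left) (_ : c default = n),
        At w F τ (a ≫ U.hom) a rfl c (by
          rw [← MorphismProperty.Over.w h, ← Category.assoc, ← e]
          simp only [Category.assoc]
          rw [hπ]) s) :
    ∃ O : S.Opens, v ∈ O ∧ ∃ t : F.obj.obj (op (EtSite.sub B (p ⁻¹ᵁ O))),
      GoodPiece B F w U τ W π₀ (EtSite.subHom B (p ⁻¹ᵁ O)) hπ t ∧
      ∀ y : (EtSite.sub B (p ⁻¹ᵁ O)).left,
        (EtSite.subHom B (p ⁻¹ᵁ O)).left y ∉ ⇑(π₀ ≫ W.ι) '' EtShriek.sectSupp ((EtCoh.pull w).obj F) U τ →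
          y ∈ agree F t 0 := by
  classical
  let π : U.left ⟶ B.left := π₀ ≫ W.ι
  let G := (EtCoh.pull w).obj F
  let Kc : Set B.left := π '' EtShriek.sectSupp G U τ
  obtain ⟨T, i, hi, hr, hpT⟩ := (ClSub24.isProperOver_iff_exists p Kc).1 hK
  haveI := hi
  haveI := hpT
  have hKcl : IsClosed Kc := hK.1
  have hKW : Kc ⊆ W := by
    rintro _ ⟨u, -, rfl⟩
    rw [Scheme.Hom.comp_apply]
    exact (π₀ u).2
  have hzero : ∀ (K : Type u) [Field K] [IsSepClosed K] (a : Spec (CommRingCat.of K) ⟶ U.left),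
      π (a default) ∉ Kc → val G (a ≫ U.hom) a rfl τ = 0 := by
    intro K _ _ a ha
    rw [val_eq_zero_iff]
    by_contra hn
    exact ha ⟨_, by rw [EtShriek24.sectSupp_eq]; exact hn, rfl⟩
  let L : Set B.left := {x | ∃ (N : X.Etale) (n : N.left) (h : N ⟶ B) (s : F.obj.obj (op N)),
    h.left n = x ∧ GoodPiece B F w U τ W π₀ h hπ s}
  have hL : IsOpen L := by
    refine isOpen_iff_forall_mem_open.2 ?_
    rintro x ⟨N, n, h, s, hn, hg⟩
    haveI := etale_left h
    exact ⟨Set.range h.left, fun _ ⟨n', hn'⟩ => ⟨N, n', h, s, hn', hg⟩,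
      h.left.isOpenMap.isOpen_range, ⟨n, hn⟩⟩
  have hKL : Kcᶜ ⊆ L := fun x hx => by
    let A : B.left.Opens := ⟨Kcᶜ, hKcl.isOpen_compl⟩
    refine ⟨EtSite.sub B A, ⟨x, hx⟩, EtSite.subHom B A, 0, rfl, fun K _ _ a c e => ?_, fun y _ => agree_self F 0 y⟩
    have hx' : π (a default) ∉ Kc := by
      rw [← Scheme.Hom.comp_apply]
      rw [show a ≫ π = c ≫ A.ι from e, Scheme.Hom.comp_apply]
      exact (c default).2
    exact (hzero K a hx').trans ((congrArg _ (val_zero F _ _)).trans (map_zero _)).symm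
  have hvL : ∀ x, p x = v → x ∈ L := fun x hx => by
    by_cases hxW : x ∈ W
    swap
    · exact hKL fun h => hxW (hKW h)
    obtain ⟨N, n, h, s, hn, hs⟩ := hfib x hxW hx
    let M := pullback π h.left
    have hcd : pullback.fst π h.left ≫ π = pullback.snd π h.left ≫ h.left := pullback.condition
    let q : M ⟶ W' := pullback.fst π h.left ≫ U.hom
    let μ : M ⟶ ((EtCoh.bc w).obj N).left := pullback.lift (pullback.snd π h.left) q (by
      rw [← MorphismProperty.Over.w h, ← Category.assoc, ← hcd]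
      simp only [q, π, Category.assoc]
      rw [hπ])
    have hμ : μ ≫ ((EtCoh.bc w).obj N).hom = q := pullback.lift_snd _ _ _
    let D := same G (a := pullback.fst π h.left) (b := μ) rfl hμ τ (res w F s)
    have hAt : ∀ (K : Type u) [Field K] [IsSepClosed K] (m : Spec (CommRingCat.of K) ⟶ M)
        (a : Spec (CommRingCat.of K) ⟶ U.left) (c : Spec (CommRingCat.of K) ⟶ N.left)
        (ea : m ≫ pullback.fst π h.left = a) (ec : m ≫ pullback.snd π h.left = c),
        m default ∈ D ↔ At w F τ (a ≫ U.hom) a rfl c (by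
          rw [← ec, Category.assoc, ← MorphismProperty.Over.w h, ← Category.assoc (pullback.snd π h.left),
            ← hcd, ← ea]
          simp only [π, Category.assoc]
          rw [hπ]) s := by
      intro K _ _ m a c ea ec
      subst ea ec
      rw [mem_same_iff]
      unfold At
      rw [val_congr' G (ξ' := (m ≫ pullback.fst π h.left) ≫ U.hom) (Category.assoc _ _ _).symm rfl rfl
        (ha' := rfl) (hb' := by rw [Category.assoc, hμ, Category.assoc])]
      rw [val_res w F ((m ≫ pullback.fst π h.left) ≫ U.hom) (m ≫ pullback.snd π h.left) (by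
          rw [Category.assoc, ← MorphismProperty.Over.w h, ← Category.assoc (pullback.snd π h.left), ← hcd]
          simp only [π, Category.assoc]
          rw [hπ])
        (m ≫ μ) (by rw [Category.assoc, hμ, Category.assoc])
        (by rw [Category.assoc, show μ ≫ bcFst w N = pullback.snd π h.left from pullback.lift_fst _ _ _])]
    have hDn : ∀ m : M, pullback.snd π h.left m = n → m ∈ D := fun m hm => by
      let g := geomPt M m
      have := (hAt _ g _ _ rfl rfl).2 (hs _ _ _ (by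
        rw [Category.assoc, show pullback.fst π h.left ≫ π₀ ≫ W.ι = _ from hcd, Category.assoc]) (by
        rw [Scheme.Hom.comp_apply, geomPt_default, hm]))
      rwa [geomPt_default] at this
    -- the projection is proper over the preimage of `W`
    let WN : N.left.Opens := h.left ⁻¹ᵁ W
    let l : M ⟶ WN.toScheme := IsOpenImmersion.lift WN.ι (pullback.snd π h.left) (by
      rw [Scheme.Opens.range_ι]
      rintro _ ⟨m, rfl⟩
      show h.left (pullback.snd π h.left m) ∈ W
      rw [← Scheme.Hom.comp_apply, ← hcd, Scheme.Hom.comp_apply, Scheme.Hom.comp_apply]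
      exact (π₀ _).2)
    have hl : l ≫ WN.ι = pullback.snd π h.left := IsOpenImmersion.lift_fac _ _ _
    have hsq : IsPullback (pullback.fst π h.left) l π₀ (h.left ∣_ W) := by
      refine IsPullback.of_bot ?_ ?_ (isPullback_morphismRestrict h.left W)
      · rw [hl]; exact IsPullback.of_hasPullback π h.left
      · rw [← cancel_mono W.ι]
        simp only [Category.assoc, morphismRestrict_ι]
        rw [← Category.assoc l, hl]
        exact hcd
    haveI : IsProper l := MorphismProperty.of_isPullback hsq ‹IsProper π₀›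
    let C : Set WN.toScheme := l '' Dᶜ
    have hC : IsClosed C := l.isClosedMap _ (isOpen_same _ _ _ _ _).isClosed_compl
    obtain ⟨A₁, hA₁, hA₁'⟩ : ∃ A₁ : N.left.Opens, n ∈ A₁ ∧ ∀ m, pullback.snd π h.left m ∈ A₁ → m ∈ D := by
      refine ⟨WN.ι ''ᵁ ⟨Cᶜ, hC.isOpen_compl⟩, ⟨⟨n, show h.left n ∈ W from hn ▸ hxW⟩, ?_, rfl⟩, ?_⟩
      · rintro ⟨m, hm, hmn⟩
        refine hm (hDn m ?_)
        rw [← hl, Scheme.Hom.comp_apply, hmn]
        rfl
      · rintro m ⟨y, hy, hym⟩
        by_contra hD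
        refine hy ⟨m, hD, ?_⟩
        apply WN.ι.isOpenEmbedding.injective
        rw [← Scheme.Hom.comp_apply, hl]
        exact hym.symm
    let A₂ : N.left.Opens := A₁ ⊓ WN
    refine ⟨EtSite.sub N A₂, ⟨n, hA₁, show h.left n ∈ W from hn ▸ hxW⟩, EtSite.subHom N A₂ ≫ h,
      F.obj.map (EtSite.subHom N A₂).op s, hn, fun K _ _ a c e => ?_, fun y hy => absurd y.2.2 hy⟩
    have e' : a ≫ π = (c ≫ A₂.ι) ≫ h.left := e.trans (Category.assoc _ _ _).symm
    let m : Spec (CommRingCat.of K) ⟶ M := pullback.lift a (c ≫ A₂.ι) e'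
    have hm : m default ∈ D := hA₁' _ (by
      rw [← Scheme.Hom.comp_apply, pullback.lift_snd, Scheme.Hom.comp_apply]
      exact (c default).2.1)
    refine ((hAt K m a (c ≫ A₂.ι) (pullback.lift_fst _ _ _) (pullback.lift_snd _ _ _)).1 hm).congr ?_
    exact (val_map F _ (EtSite.subHom N A₂) c _ _ _ rfl s).symm
  -- the open of the base
  have hbad : IsClosed (p '' Lᶜ) := by
    have : p '' Lᶜ = (i ≫ p) '' (i ⁻¹' Lᶜ) := by
      ext y
      constructor
      · rintro ⟨x, hx, rfl⟩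
        obtain ⟨t, rfl⟩ := hr.ge (by by_contra hxK; exact hx (hKL hxK))
        exact ⟨t, hx, Scheme.Hom.comp_apply _ _ _⟩
      · rintro ⟨t, ht, rfl⟩
        exact ⟨i t, ht, (Scheme.Hom.comp_apply _ _ _).symm⟩
    rw [this]
    exact (i ≫ p).isClosedMap _ (hL.isClosed_compl.preimage i.continuous)
  let O : S.Opens := ⟨(p '' Lᶜ)ᶜ, hbad.isOpen_compl⟩
  refine ⟨O, fun ⟨x, hx, hxv⟩ => hx (hvL x hxv), ?_⟩
  let UB := EtSite.sub B (p ⁻¹ᵁ O)
  let ι := EtSite.subHom B (p ⁻¹ᵁ O)
  have hmem : ∀ y : UB.left, ι.left y ∈ L := fun y => by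
    by_contra hy
    exact y.2 ⟨_, hy, rfl⟩
  obtain ⟨t, ht⟩ := GoodPiece.glue (hπ := hπ) ι hmem
  refine ⟨t, ht, fun y hy => ?_⟩
  obtain ⟨φ, hφ⟩ := exists_fib UB y
  let c : Spec (CommRingCat.of _) ⟶ UB.left := φ.left
  have hy' : c default = y := hφ
  rw [← hy', ← val_eq_zero_iff F c rfl t]
  refine ht.val_eq_zero c rfl ?_
  rw [hy']
  exact hy

end Groth.Agent.ShriekBC24
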