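import Groth.Agent.Lib.ShriekBC24.AtExt
import Groth.Agent.Lib.EtStalk.OpenImm
import Groth.Prelude.Def_EtShriek2

/-!
# Values of direct images along open immersions
-/

universe u

open CategoryTheory CategoryTheory.Limits AlgebraicGeometry Opposite

set_option backward.isDefEq.respectTransparency.types false

namespace Groth.Agent.ShriekBC24

open Groth.Agent.EtStalk Groth.Agent.Gabber24 Groth.Agent.ConnDescent24 Groth.Agent.ProperPush24

variable {U X : Scheme.{u}} (j : U ⟶ X) [IsOpenImmersion j] {K : Type u} [Field K] [IsSepClosed K]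

theorem bijective_pushStalk (ζ : Spec (CommRingCat.of K) ⟶ U) (G : EtCoh.Ab U) :
    Function.Bijective (pushStalk j ζ G) := by
  haveI : AlgebraicGeometry.Etale j := inferInstance
  haveI : IsIso (pushStalk j ζ G) := by
    rw [← stalkPull_counit]
    infer_instance
  exact ConcreteCategory.bijective_of_isIso _

/-- Values of a direct image at a point of the open are the values of the section. -/
theorem val_push_iff (G : EtCoh.Ab U) (ζ : Spec (CommRingCat.of K) ⟶ U)
    {ξ : Spec (CommRingCat.of K) ⟶ X} (hξ : ζ ≫ j = ξ) {N N' : X.Etale}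
    (n : Spec (CommRingCat.of K) ⟶ N.left) (n' : Spec (CommRingCat.of K) ⟶ N'.left)
    (hn : n ≫ N.hom = ξ) (hn' : n' ≫ N'.hom = ξ)
    (l : Spec (CommRingCat.of K) ⟶ ((EtCoh.bc j).obj N).left)
    (l' : Spec (CommRingCat.of K) ⟶ ((EtCoh.bc j).obj N').left)
    (hl : l ≫ ((EtCoh.bc j).obj N).hom = ζ) (hl' : l' ≫ ((EtCoh.bc j).obj N').hom = ζ)
    (e : l ≫ bcFst j N = n) (e' : l' ≫ bcFst j N' = n')
    (t : ((EtCoh.push j).obj G).obj.obj (op N)) (t' : ((EtCoh.push j).obj G).obj.obj (op N')) :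
    val ((EtCoh.push j).obj G) ξ n hn t = val ((EtCoh.push j).obj G) ξ n' hn' t' ↔
      val G ζ l hl t = val G ζ l' hl' t' := by
  subst hξ
  have key : ∀ {M : X.Etale} (m : Spec (CommRingCat.of K) ⟶ M.left) (hm : m ≫ M.hom = ζ ≫ j)
      (r : Spec (CommRingCat.of K) ⟶ ((EtCoh.bc j).obj M).left) (hr : r ≫ ((EtCoh.bc j).obj M).hom = ζ)
      (_ : r ≫ bcFst j M = m) (x : ((EtCoh.push j).obj G).obj.obj (op M)),
      pushStalk j ζ G (val ((EtCoh.push j).obj G) (ζ ≫ j) m hm x) = val G ζ r hr x := by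
    intro M m hm r hr er x
    refine (germ_pushStalk j ζ G (Over.homMk m hm) x).trans ?_
    refine congrArg (fun z => germ ζ G (U := (EtCoh.bc j).obj M) z x) (Over.OverMorphism.ext ?_)
    refine pullback.hom_ext ?_ ?_
    · exact (pullback.lift_fst _ _ _).trans er.symm
    · exact (pullback.lift_snd _ _ _).trans hr.symm
  rw [← key n hn l hl e t, ← key n' hn' l' hl' e' t']
  exact (bijective_pushStalk j ζ G).1.eq_iff.symm

/-- Agreement with zero of a direct image gives agreement with zero of the section. -/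
theorem agree_zero_of_push (G : EtCoh.Ab U) {N : X.Etale} (t : ((EtCoh.push j).obj G).obj.obj (op N))
    (y : ((EtCoh.bc j).obj N).left) (h : bcFst j N y ∈ agree ((EtCoh.push j).obj G) t 0) :
    y ∈ agree G (U := (EtCoh.bc j).obj N) t 0 := by
  obtain ⟨φ, hφ⟩ := exists_fib ((EtCoh.bc j).obj N) y
  let a : Spec (CommRingCat.of _) ⟶ ((EtCoh.bc j).obj N).left := φ.left
  have ha : a default = y := hφ
  rw [← ha]
  rw [← ha, ← Scheme.Hom.comp_apply] at h
  let ζ := a ≫ ((EtCoh.bc j).obj N).hom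
  have hc : bcFst j N ≫ N.hom = ((EtCoh.bc j).obj N).hom ≫ j := pullback.condition
  have hn : (a ≫ bcFst j N) ≫ N.hom = ζ ≫ j := by
    rw [Category.assoc, hc, ← Category.assoc]
  rw [← val_eq_zero_iff G (ξ := ζ) a rfl]
  rw [← val_eq_zero_iff _ (a ≫ bcFst j N) hn] at h
  refine ((val_push_iff j G ζ rfl _ _ hn hn a a rfl rfl rfl rfl t (0 : ((EtCoh.push j).obj G).obj.obj (op N))).1
    (h.trans (map_zero _).symm)).trans (map_zero _)

end Groth.Agent.ShriekBC24
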