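import Groth.Agent.Lib.ShriekBC24.Descend
import Groth.Agent.Lib.ShriekBC24.Boundary
import Groth.Agent.Lib.ShriekBC24.Chart
import Groth.Agent.Lib.ExtShriek24.ToPush

/-!
# Sections with proper support on a geometric fibre come from an etale neighbourhood
-/

universe u

open CategoryTheory CategoryTheory.Limits AlgebraicGeometry Opposite

set_option backward.isDefEq.respectTransparency.types false

namespace Groth.Agent.ShriekBC24

open Groth.Agent.EtStalk Groth.Agent.Gabber24 Groth.Agent.ConnDescent24 Groth.Agent.ProperPush24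

section Compose

variable {Y : Scheme.{u}}

/-- An etale scheme over an etale scheme. -/
noncomputable def compSub (V : Y.Etale) (V' : V.left.Etale) : Y.Etale :=
  MorphismProperty.Over.mk ⊤ (V'.hom ≫ V.hom) (by
    haveI : AlgebraicGeometry.Etale V'.hom := V'.prop
    haveI : AlgebraicGeometry.Etale V.hom := V.prop
    infer_instance)

end Compose

section Base

variable {X Y : Scheme.{u}} (f : X ⟶ Y) (V : Y.Etale) (V' : V.left.Etale)

/-- The base changes to a composite etale scheme and to the middle one. -/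
noncomputable def bcMid : ((EtCoh.bc f).obj (compSub V V')).left ⟶ ((EtCoh.bc f).obj V).left :=
  pullback.lift (bcFst f (compSub V V') ≫ V'.hom) ((EtCoh.bc f).obj (compSub V V')).hom
    ((Category.assoc _ _ _).trans pullback.condition)

lemma bcMid_hom : bcMid f V V' ≫ ((EtCoh.bc f).obj V).hom = ((EtCoh.bc f).obj (compSub V V')).hom :=
  pullback.lift_snd _ _ _

lemma bcMid_fst : bcMid f V V' ≫ bcFst f V = bcFst f (compSub V V') ≫ V'.hom :=
  pullback.lift_fst _ _ _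

lemma isPullback_bcMid :
    IsPullback (bcMid f V V') (bcFst f (compSub V V')) (bcFst f V) V'.hom := by
  refine IsPullback.of_right ?_ (bcMid_fst f V V') (IsPullback.of_hasPullback V.hom f).flip
  exact (congrArg (fun t => IsPullback t (bcFst f (compSub V V')) f (V'.hom ≫ V.hom)) (bcMid_hom f V V')).mpr
    (IsPullback.of_hasPullback (compSub V V').hom f).flip

end Base

variable {X Y P : Scheme.{u}} (f : X ⟶ Y) {Ω : Type u} [Field Ω] [IsSepClosed Ω]
  {ξ : Spec (CommRingCat.of Ω) ⟶ Y} {pX : P ⟶ X} {pS : P ⟶ Spec (CommRingCat.of Ω)}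

lemma fibreMap_fst (h : pX ≫ f = pS ≫ ξ) {V : Y.Etale} (v : fib ξ V) :
    fibreMap f h v ≫ bcFst f V = pS ≫ v.left :=
  pullback.lift_fst _ _ _

variable [IsSeparated f] [LocallyOfFiniteType f] (hP : IsPullback pX pS f ξ) (F : EtCoh.Ab X)

set_option maxHeartbeats 4000000 in
/-- Sections with proper support on a geometric fibre come from an etale neighbourhood. -/
theorem exists_section_of_proper_support
    (σ : ((EtCoh.pull pX).obj F).obj.obj (op (EtCoh.top P)))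
    (hσ : ClSub.IsProperOver pS (EtShriek.sectSupp ((EtCoh.pull pX).obj F) (EtCoh.top P) σ)) :
    ∃ (V : Y.Etale) (v : fib ξ V) (t : F.obj.obj (op ((EtCoh.bc f).obj V))),
      ClSub.IsProperOver (EtShriek.prV f V) (EtShriek.sectSupp F _ t) ∧
      ∀ (K : Type u) [Field K] [IsSepClosed K] (ζ : Spec (CommRingCat.of K) ⟶ P),
        At pX F σ ζ ζ (Category.comp_id ζ) (ζ ≫ fibreMap f hP.w v)
          (by rw [Category.assoc, fibreMap_hom]) t := by
  classical
  let Z := EtShriek.sectSupp ((EtCoh.pull pX).obj F) (EtCoh.top P) σ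
  haveI : LocallyOfFiniteType pS := MorphismProperty.of_isPullback hP ‹LocallyOfFiniteType f›
  haveI : IsSeparated pS := MorphismProperty.of_isPullback hP ‹IsSeparated f›
  obtain ⟨T, i, hi, hr, hpT⟩ := (ClSub24.isProperOver_iff_exists pS Z).1 hσ
  haveI := hi
  haveI := hpT
  -- an affine neighbourhood of the point
  obtain ⟨A₀, hA₀, hξA, -⟩ := exists_isAffineOpen_mem_and_subset (x := ξ default) (U := ⊤) trivial
  let V₀ : Y.Etale := EtSite.sub (EtCoh.top Y) A₀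
  haveI : IsAffine V₀.left := hA₀
  obtain ⟨c₀, hc₀⟩ := ExtShriek24.exists_lift_opens A₀ ξ hξA
  let v₀ : fib ξ V₀ := Over.homMk c₀ (by
    show c₀ ≫ A₀.ι ≫ 𝟙 Y = ξ
    rw [Category.comp_id, hc₀])
  let B₀ := (EtCoh.bc f).obj V₀
  let v₀l : Spec (CommRingCat.of Ω) ⟶ V₀.left := c₀
  let p₀ : B₀.left ⟶ V₀.left := bcFst f V₀
  haveI : IsSeparated p₀ := inferInstanceAs (IsSeparated (pullback.fst V₀.hom f))
  haveI : LocallyOfFiniteType p₀ := inferInstanceAs (LocallyOfFiniteType (pullback.fst V₀.hom f))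
  let fm₀ : P ⟶ B₀.left := fibreMap f hP.w v₀
  have hfm₀X : fm₀ ≫ B₀.hom = pX := fibreMap_hom f hP.w v₀
  have hfm₀S : fm₀ ≫ p₀ = pS ≫ v₀l := fibreMap_fst f hP.w v₀
  haveI : CompactSpace T := QuasiCompact.compactSpace_of_compactSpace (i ≫ pS)
  obtain ⟨W, W', Wb, π₀, j, fb, hCW, hπ₀p, hπ₀s, hj, hfb, hjfb⟩ := exists_chart p₀ (Set.range (i ≫ fm₀))
    (isCompact_range (i ≫ fm₀).continuous)
  haveI := hπ₀p
  haveI := hπ₀s
  haveI := hj
  haveI := hfb
  let w : W' ⟶ X := π₀ ≫ W.ι ≫ B₀.hom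
  let G := (EtCoh.pull w).obj F
  let E := (EtCoh.push j).obj G
  -- the boundary fibre
  let Pb := pullback fb v₀l
  let b : Pb ⟶ Wb := pullback.fst fb v₀l
  let P'' := pullback (j ≫ fb) v₀l
  let a : P'' ⟶ W' := pullback.fst (j ≫ fb) v₀l
  let θ : P'' ⟶ Pb := pullback.lift (a ≫ j) (pullback.snd (j ≫ fb) v₀l) (by
    rw [Category.assoc]; exact pullback.condition)
  have hθ : a ≫ j = θ ≫ b := (pullback.lift_fst _ _ _).symm
  have hθs : θ ≫ pullback.snd fb v₀l = pullback.snd (j ≫ fb) v₀l := pullback.lift_snd _ _ _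
  have hsq : IsPullback a θ j b := by
    refine IsPullback.of_bot ?_ hθ (IsPullback.of_hasPullback fb v₀l)
    rw [hθs]
    exact IsPullback.of_hasPullback (j ≫ fb) v₀l
  haveI : IsOpenImmersion θ := MorphismProperty.of_isPullback (P := @IsOpenImmersion) hsq hj
  have hv₀ : v₀l ≫ V₀.hom = ξ := Over.w v₀
  have hwf : w ≫ f = (j ≫ fb) ≫ V₀.hom := by
    rw [hjfb]
    simp only [w, Category.assoc]
    exact congrArg (fun r => π₀ ≫ W.ι ≫ r) pullback.condition.symm
  let ρ : P'' ⟶ P := hP.lift (a ≫ w) (pullback.snd (j ≫ fb) v₀l) (by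
    rw [Category.assoc, hwf, ← Category.assoc a, show a ≫ j ≫ fb = _ from pullback.condition, Category.assoc, hv₀])
  have hw : ρ ≫ pX = a ≫ w := hP.lift_fst _ _ _
  have hρS : ρ ≫ pS = pullback.snd (j ≫ fb) v₀l := hP.lift_snd _ _ _
  have hρfm : ρ ≫ fm₀ = a ≫ π₀ ≫ W.ι := by
    refine pullback.hom_ext ?_ ?_
    · show (ρ ≫ fm₀) ≫ p₀ = (a ≫ π₀ ≫ W.ι) ≫ p₀
      rw [Category.assoc, hfm₀S, ← Category.assoc ρ, hρS, Category.assoc]
      simp only [Category.assoc]
      rw [← hjfb]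
      exact pullback.condition.symm
    · show (ρ ≫ fm₀) ≫ B₀.hom = (a ≫ π₀ ≫ W.ι) ≫ B₀.hom
      rw [Category.assoc, hfm₀X, hw]
      simp only [w, Category.assoc]
  have hC : IsClosed (θ '' (ρ ⁻¹' Z)) := by
    let lT : T ⟶ W.toScheme := IsOpenImmersion.lift W.ι (i ≫ fm₀) (by rw [Scheme.Opens.range_ι]; exact hCW)
    have hlT : lT ≫ W.ι = i ≫ fm₀ := IsOpenImmersion.lift_fac _ _ _
    let T' := pullback π₀ lT
    let ψ : T' ⟶ P'' := pullback.lift (pullback.fst π₀ lT) (pullback.snd π₀ lT ≫ i ≫ pS) (by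
      rw [hjfb, pullback.condition_assoc, reassoc_of% hlT, hfm₀S]
      simp only [Category.assoc])
    have hψρ : ψ ≫ ρ = pullback.snd π₀ lT ≫ i := by
      refine hP.hom_ext ?_ ?_
      · rw [Category.assoc, hw, ← Category.assoc, pullback.lift_fst, Category.assoc]
        simp only [w]
        rw [pullback.condition_assoc, reassoc_of% hlT, hfm₀X]
      · rw [Category.assoc, hρS, pullback.lift_snd, Category.assoc]
    let φ := ψ ≫ θ
    haveI : IsProper (φ ≫ pullback.snd fb v₀l) := by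
      rw [Category.assoc, hθs, pullback.lift_snd]
      infer_instance
    haveI : IsProper φ := IsProper.of_comp φ (pullback.snd fb v₀l)
    have hrange : Set.range φ = θ '' (ρ ⁻¹' Z) := by
      ext z
      constructor
      · rintro ⟨t, rfl⟩
        refine ⟨ψ t, ?_, (Scheme.Hom.comp_apply _ _ _).symm⟩
        rw [Set.mem_preimage, ← Scheme.Hom.comp_apply, hψρ, Scheme.Hom.comp_apply, ← hr]
        exact ⟨_, rfl⟩
      · rintro ⟨m, hm, rfl⟩
        obtain ⟨t, ht⟩ := hr.ge hm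
        obtain ⟨z, hz, -⟩ := Scheme.Pullback.exists_preimage_pullback (f := ρ) (g := i) m t ht.symm
        let k : pullback ρ i ⟶ T' := pullback.lift (pullback.fst ρ i ≫ a) (pullback.snd ρ i) (by
          rw [← cancel_mono W.ι]
          simp only [Category.assoc]
          rw [hlT, ← hρfm, pullback.condition_assoc])
        have hk : k ≫ ψ = pullback.fst ρ i := by
          refine pullback.hom_ext ?_ ?_
          · rw [Category.assoc, pullback.lift_fst, pullback.lift_fst]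
          · rw [Category.assoc, pullback.lift_snd, ← Category.assoc, pullback.lift_snd,
              ← pullback.condition_assoc, hρS]
        refine ⟨k z, ?_⟩
        rw [← Scheme.Hom.comp_apply, show k ≫ φ = pullback.fst ρ i ≫ θ by rw [← Category.assoc, hk],
          Scheme.Hom.comp_apply, hz]
    rw [← hrange]
    exact φ.isClosedMap.isClosed_range
  obtain ⟨σb, hσb⟩ := exists_extension (F := F) (σ := σ) hw hθ hsq hC
  -- base change for the compactification
  have hPb : IsPullback b (pullback.snd fb v₀l) fb v₀l := IsPullback.of_hasPullback fb v₀l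
  obtain ⟨V₁, v₁, t', ht'⟩ := ProperPush24.exists_section_of_global fb hPb E σb
  let v₁l : Spec (CommRingCat.of Ω) ⟶ V₁.left := v₁.left
  let B₁ := (EtCoh.bc fb).obj V₁
  haveI : IsProper (bcFst fb V₁) := inferInstanceAs (IsProper (pullback.fst V₁.hom fb))
  let U₀ := (EtCoh.bc j).obj B₁
  haveI : IsOpenImmersion (bcFst j B₁) := inferInstanceAs (IsOpenImmersion (pullback.fst B₁.hom j))
  let S₀ : Set U₀.left := EtShriek.sectSupp G U₀ t'
  have hvals : ∀ (K : Type u) [Field K] [IsSepClosed K] (ζ : Spec (CommRingCat.of K) ⟶ Pb),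
      ∃ hn, Extends pX F σ w j b a θ ρ ζ (ζ ≫ fibreMap fb hPb.w v₁) hn hw hθ t' := fun K _ _ ζ =>
    ⟨by rw [Category.assoc, fibreMap_hom], hσb K ζ _ _ _ _ (ht' K ζ)⟩
  -- shrink to make the support proper
  let Bad : Set V₁.left := bcFst fb V₁ '' (closure (bcFst j B₁ '' S₀) ∩ (Set.range (bcFst j B₁))ᶜ)
  have hBadc : IsClosed Bad := (bcFst fb V₁).isClosedMap _
    (isClosed_closure.inter (bcFst j B₁).isOpenEmbedding.isOpen_range.isClosed_compl)
  have hv₁ : v₁l default ∉ Bad := by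
    rintro ⟨y, ⟨hyc, hyr⟩, hyv⟩
    have hsq₁ : IsPullback (fibreMap fb hPb.w v₁) (pullback.snd fb v₀l) (bcFst fb V₁) v₁l := by
      refine IsPullback.of_right ?_ (pullback.lift_fst _ _ _) (IsPullback.of_hasPullback V₁.hom fb).flip
      rw [show v₁l ≫ V₁.hom = v₀l from Over.w v₁]
      exact (congrArg (fun r => IsPullback r (pullback.snd fb v₀l) fb v₀l) (fibreMap_hom fb hPb.w v₁)).mpr hPb
    obtain ⟨z, hz, -⟩ := Scheme.exists_preimage_of_isPullback hsq₁ y default hyv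
    let ζ := geomPt Pb z
    obtain ⟨hn, hext⟩ := hvals _ ζ
    have hzC : ζ default ∉ θ '' (ρ ⁻¹' Z) := by
      rintro ⟨m, -, hm⟩
      apply hyr
      rw [geomPt_default] at hm
      obtain ⟨q, hq, -⟩ := Scheme.Pullback.exists_preimage_pullback (f := B₁.hom) (g := j) y (a m) (by
        rw [← hz, ← Scheme.Hom.comp_apply, show fibreMap fb hPb.w v₁ ≫ B₁.hom = b from fibreMap_hom fb hPb.w v₁,
          ← hm, ← Scheme.Hom.comp_apply, ← hθ, Scheme.Hom.comp_apply])
      exact ⟨q, hq⟩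
    have h0 := (val_eq_zero_iff E _ hn t').1 (hext.2 hzC)
    rw [Scheme.Hom.comp_apply, geomPt_default, hz] at h0
    obtain ⟨y', hy', u, hu, hyu⟩ := mem_closure_iff.1 hyc (agree E t' 0) (isOpen_agree E t' 0) h0
    have hu' := agree_zero_of_push j G t' u (hyu.symm ▸ hy')
    rw [show S₀ = _ from EtShriek24.sectSupp_eq G U₀ t'] at hu
    exact hu hu'
  let O₁ : V₁.left.Opens := ⟨Badᶜ, hBadc.isOpen_compl⟩
  obtain ⟨c₁, hc₁⟩ := ExtShriek24.exists_lift_opens O₁ v₁l hv₁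
  let V₁' := EtSite.sub V₁ O₁
  let ι₁ := EtSite.subHom V₁ O₁
  let B₁' := (EtCoh.bc fb).obj V₁'
  let U₁ := (EtCoh.bc j).obj B₁'
  haveI : IsOpenImmersion (bcFst j B₁') := inferInstanceAs (IsOpenImmersion (pullback.fst B₁'.hom j))
  haveI : IsProper (bcFst fb V₁') := inferInstanceAs (IsProper (pullback.fst V₁'.hom fb))
  let k₁ : U₁ ⟶ U₀ := (EtCoh.bc j).map ((EtCoh.bc fb).map ι₁)
  let t₁ : G.obj.obj (op U₁) := G.obj.map k₁.op t'
  have hk₁ : k₁.left ≫ bcFst j B₁ = bcFst j B₁' ≫ ((EtCoh.bc fb).map ι₁).left := bcFst_nat j _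
  let S₁ : Set U₁.left := EtShriek.sectSupp G U₁ t₁
  have hS₁ : S₁ = k₁.left ⁻¹' S₀ := EtShriek24.sectSupp_map G k₁ t'
  -- the composite etale neighbourhood
  let V₂ := compSub V₀ V₁'
  have hc₁' : c₁ ≫ V₁'.hom = v₀l := by
    show c₁ ≫ O₁.ι ≫ V₁.hom = v₀l
    rw [← Category.assoc, hc₁]
    exact Over.w v₁
  let v₂ : fib ξ V₂ := Over.homMk c₁ (by
    show c₁ ≫ V₁'.hom ≫ V₀.hom = ξ
    rw [← Category.assoc, hc₁', hv₀])
  let B₂ := (EtCoh.bc f).obj V₂
  let p₂ : B₂.left ⟶ V₁'.left := bcFst f V₂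
  haveI : LocallyOfFiniteType p₂ := inferInstanceAs (LocallyOfFiniteType (pullback.fst V₂.hom f))
  haveI : IsSeparated p₂ := inferInstanceAs (IsSeparated (pullback.fst V₂.hom f))
  let fm₂ : P ⟶ B₂.left := fibreMap f hP.w v₂
  have hfm₂S : fm₂ ≫ p₂ = pS ≫ c₁ := fibreMap_fst f hP.w v₂
  have hfm₂X : fm₂ ≫ B₂.hom = pX := fibreMap_hom f hP.w v₂
  let mid := bcMid f V₀ V₁'
  have hmidfm : fm₂ ≫ mid = fm₀ := by
    refine pullback.hom_ext ?_ ?_
    · show (fm₂ ≫ mid) ≫ p₀ = fm₀ ≫ p₀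
      rw [Category.assoc, show mid ≫ p₀ = p₂ ≫ V₁'.hom from bcMid_fst f V₀ V₁', ← Category.assoc, hfm₂S]
      exact ((Category.assoc _ _ _).trans (congrArg (pS ≫ ·) hc₁')).trans hfm₀S.symm
    · show (fm₂ ≫ mid) ≫ B₀.hom = fm₀ ≫ B₀.hom
      rw [Category.assoc, show mid ≫ B₀.hom = B₂.hom from bcMid_hom f V₀ V₁', hfm₂X, hfm₀X]
  let q₂ : U₁.left ⟶ V₁'.left := bcFst j B₁' ≫ bcFst fb V₁'
  have hbig : IsPullback U₁.hom q₂ (j ≫ fb) V₁'.hom :=
    (IsPullback.of_hasPullback B₁'.hom j).flip.paste_vert (IsPullback.of_hasPullback V₁'.hom fb).flip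
  let π₂ : U₁.left ⟶ B₂.left := pullback.lift q₂ (U₁.hom ≫ w) (by
    show q₂ ≫ V₁'.hom ≫ V₀.hom = (U₁.hom ≫ w) ≫ f
    rw [← Category.assoc, ← hbig.w, Category.assoc, Category.assoc, Category.assoc, hwf, Category.assoc])
  have hπ₂S : π₂ ≫ p₂ = q₂ := pullback.lift_fst _ _ _
  have hπ₂X : π₂ ≫ B₂.hom = U₁.hom ≫ w := pullback.lift_snd _ _ _
  have hπ₂mid : π₂ ≫ mid = U₁.hom ≫ π₀ ≫ W.ι := by
    refine pullback.hom_ext ?_ ?_
    · show (π₂ ≫ mid) ≫ p₀ = (U₁.hom ≫ π₀ ≫ W.ι) ≫ p₀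
      rw [Category.assoc, show mid ≫ p₀ = p₂ ≫ V₁'.hom from bcMid_fst f V₀ V₁', ← Category.assoc, hπ₂S,
        ← hbig.w, hjfb]
      simp only [Category.assoc]
    · show (π₂ ≫ mid) ≫ B₀.hom = (U₁.hom ≫ π₀ ≫ W.ι) ≫ B₀.hom
      rw [Category.assoc, show mid ≫ B₀.hom = B₂.hom from bcMid_hom f V₀ V₁', hπ₂X]
      simp only [w, Category.assoc]
  have hsq₂ : IsPullback U₁.hom π₂ (π₀ ≫ W.ι) mid := by
    refine IsPullback.of_bot ?_ hπ₂mid.symm (isPullback_bcMid f V₀ V₁')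
    rw [show π₂ ≫ bcFst f V₂ = q₂ from hπ₂S, Category.assoc, show W.ι ≫ bcFst f V₀ = W.ι ≫ p₀ from rfl, ← hjfb]
    exact hbig
  let W₂ : B₂.left.Opens := mid ⁻¹ᵁ W
  let π₂₀ : U₁.left ⟶ W₂.toScheme := IsOpenImmersion.lift W₂.ι π₂ (by
    rw [Scheme.Opens.range_ι]
    rintro _ ⟨u, rfl⟩
    show mid (π₂ u) ∈ W
    rw [← Scheme.Hom.comp_apply, hπ₂mid, Scheme.Hom.comp_apply, Scheme.Hom.comp_apply]
    exact (π₀ _).2)
  have hπ₂₀ : π₂₀ ≫ W₂.ι = π₂ := IsOpenImmersion.lift_fac _ _ _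
  have hsq₂₀ : IsPullback U₁.hom π₂₀ π₀ (mid ∣_ W) := by
    refine IsPullback.of_bot ?_ ?_ (isPullback_morphismRestrict mid W)
    · rw [hπ₂₀]; exact hsq₂
    · rw [← cancel_mono W.ι]
      simp only [Category.assoc, morphismRestrict_ι]
      rw [← Category.assoc π₂₀, hπ₂₀]
      exact hπ₂mid.symm
  haveI : IsProper π₂₀ := MorphismProperty.of_isPullback hsq₂₀ hπ₀p
  haveI : Surjective π₂₀ := MorphismProperty.of_isPullback hsq₂₀ hπ₀s
  have hπ : U₁.hom ≫ w = π₂₀ ≫ W₂.ι ≫ B₂.hom := by rw [← Category.assoc π₂₀, hπ₂₀, hπ₂X]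
  -- the support is proper
  have hK : ClSub.IsProperOver p₂ (⇑(π₂₀ ≫ W₂.ι) '' S₁) := by
    have hcl : IsClosed (bcFst j B₁' '' S₁) := by
      have e : bcFst j B₁' '' S₁ = ((EtCoh.bc fb).map ι₁).left ⁻¹' closure (bcFst j B₁ '' S₀) := by
        ext y
        constructor
        · rintro ⟨u, hu, rfl⟩
          refine subset_closure ⟨k₁.left u, by rwa [hS₁] at hu, ?_⟩
          rw [← Scheme.Hom.comp_apply, hk₁, Scheme.Hom.comp_apply]
        · intro hy
          have hy1 : ((EtCoh.bc fb).map ι₁).left y ∈ Set.range (bcFst j B₁) := by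
            by_contra hn
            have h := congrArg (fun r => r y) (bcFst_nat fb ι₁)
            simp only [Scheme.Hom.comp_apply] at h
            exact (bcFst fb V₁' y).2 ⟨_, ⟨hy, hn⟩, h⟩
          obtain ⟨u, hu⟩ := hy1
          have hu' : u ∈ S₀ := by
            have hy' : ((EtCoh.bc fb).map ι₁).left y ∈ closure (bcFst j B₁ '' S₀) := hy
            rw [← hu] at hy'
            have h2 := (bcFst j B₁).isOpenEmbedding.isInducing.closure_eq_preimage_closure_image S₀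
            have h3 : IsClosed S₀ := EtShriek24.isClosed_sectSupp G U₀ t'
            rw [h3.closure_eq] at h2
            exact h2.ge hy'
          obtain ⟨q, hq₁, hq₂⟩ := Scheme.exists_preimage_of_isPullback
            (EtCoh.isPullback_bc_map j ((EtCoh.bc fb).map ι₁)) u y hu
          refine ⟨q, ?_, hq₂⟩
          rw [hS₁, Set.mem_preimage, hq₁]
          exact hu'
      rw [e]
      exact isClosed_closure.preimage (Scheme.Hom.continuous _)
    let Cs : TopologicalSpace.Closeds B₁'.left := ⟨_, hcl⟩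
    let J := Scheme.IdealSheafData.vanishingIdeal Cs
    have hJ : Set.range J.subschemeι = bcFst j B₁' '' S₁ := by
      rw [Scheme.IdealSheafData.range_subschemeι, Scheme.IdealSheafData.coe_support_vanishingIdeal]
      rfl
    let iU : J.subscheme ⟶ U₁.left := IsOpenImmersion.lift (bcFst j B₁') J.subschemeι (by
      rw [hJ]; rintro _ ⟨u, -, rfl⟩; exact ⟨u, rfl⟩)
    have hiU : iU ≫ bcFst j B₁' = J.subschemeι := IsOpenImmersion.lift_fac _ _ _
    haveI : IsClosedImmersion iU := by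
      haveI : IsClosedImmersion (iU ≫ bcFst j B₁') := by rw [hiU]; infer_instance
      exact IsClosedImmersion.of_comp iU (bcFst j B₁')
    haveI : IsProper (iU ≫ q₂) := by
      simp only [q₂]
      rw [← Category.assoc, hiU]
      infer_instance
    have hri : Set.range iU = S₁ := by
      ext u
      constructor
      · rintro ⟨t, rfl⟩
        obtain ⟨u', hu', he⟩ := hJ.le ⟨t, rfl⟩
        rw [← hiU, Scheme.Hom.comp_apply] at he
        rwa [← (bcFst j B₁').isOpenEmbedding.injective he]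
      · intro hu
        obtain ⟨t, ht⟩ := hJ.ge ⟨u, hu, rfl⟩
        refine ⟨t, (bcFst j B₁').isOpenEmbedding.injective ?_⟩
        rw [← Scheme.Hom.comp_apply, hiU, ht]
    rw [hπ₂₀]
    haveI : LocallyOfFiniteType q₂ := inferInstance
    exact ClSub24.isProperOver_image q₂ p₂ π₂ hπ₂S (Or.inl inferInstance)
      (LimH13.isProperOver_of_isProper q₂ iU hri)
  -- values of the section on the fibre
  have transfer : ∀ (K : Type u) [Field K] [IsSepClosed K] (c : Spec (CommRingCat.of K) ⟶ U₁.left)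
      (ζp : Spec (CommRingCat.of K) ⟶ P) (_ : c ≫ π₂ = ζp ≫ fm₂) (N : X.Etale)
      (n : Spec (CommRingCat.of K) ⟶ N.left) (hn : n ≫ N.hom = ζp ≫ pX) (s : F.obj.obj (op N)),
      At pX F σ ζp ζp (Category.comp_id _) n hn s →
      ∀ hn' : n ≫ N.hom = (c ≫ U₁.hom) ≫ w, At w F t₁ (c ≫ U₁.hom) c rfl n hn' s := by
    intro K _ _ c ζp hc N n hn s hs hn'
    have hq : c ≫ q₂ = (ζp ≫ pS) ≫ c₁ := by
      rw [← hπ₂S, ← Category.assoc, hc, Category.assoc, hfm₂S, Category.assoc]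
      rfl
    let m : Spec (CommRingCat.of K) ⟶ P'' := pullback.lift (c ≫ U₁.hom) (ζp ≫ pS) (by
      rw [Category.assoc, hbig.w, ← Category.assoc c, hq]
      exact (Category.assoc _ c₁ _).trans (congrArg ((ζp ≫ pS) ≫ ·) hc₁'))
    have hma : m ≫ a = c ≫ U₁.hom := pullback.lift_fst _ _ _
    have hmρ : m ≫ ρ = ζp := by
      refine hP.hom_ext ?_ ?_
      · rw [Category.assoc, hw, ← Category.assoc, hma, Category.assoc, ← hπ₂X, ← Category.assoc c, hc,
          Category.assoc, hfm₂X]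
      · rw [Category.assoc, hρS]
        exact pullback.lift_snd _ _ _
    obtain ⟨hn₁, hext⟩ := hvals K (m ≫ θ)
    have hσ' : At pX F σ (m ≫ ρ) (m ≫ ρ) (Category.comp_id _) n (by rw [hn, hmρ]) s :=
      (at_comp_iff (𝟙 _) (Category.comp_id _) (Category.comp_id _) hn (by rw [hn, hmρ])
        ((Category.id_comp _).trans hmρ.symm) (Category.id_comp _) s).2 hs
    have h1 := hext.1 m rfl N n _ s hσ'
    let l : Spec (CommRingCat.of K) ⟶ U₀.left :=
      pullback.lift ((m ≫ θ) ≫ fibreMap fb hPb.w v₁) (m ≫ a) (by rw [hn₁, Category.assoc m θ, ← hθ]; simp only [Category.assoc])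
    have hl : l = c ≫ k₁.left := by
      refine pullback.hom_ext ?_ ?_
      · refine (pullback.lift_fst _ _ _).trans (Eq.symm ?_)
        show (c ≫ k₁.left) ≫ bcFst j B₁ = (m ≫ θ) ≫ fibreMap fb hPb.w v₁
        rw [Category.assoc, hk₁]
        refine pullback.hom_ext ?_ ?_
        · show (c ≫ bcFst j B₁' ≫ ((EtCoh.bc fb).map ι₁).left) ≫ bcFst fb V₁ =
            ((m ≫ θ) ≫ fibreMap fb hPb.w v₁) ≫ bcFst fb V₁
          simp only [Category.assoc]
          rw [bcFst_nat fb ι₁, fibreMap_fst fb hPb.w v₁]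
          have eL : c ≫ bcFst j B₁' ≫ bcFst fb V₁' ≫ ι₁.left = (ζp ≫ pS) ≫ v₁l :=
            (congrArg (c ≫ ·) (Category.assoc _ _ _).symm).trans ((Category.assoc c q₂ ι₁.left).symm.trans
              ((congrArg (· ≫ ι₁.left) hq).trans ((Category.assoc _ _ _).trans (congrArg ((ζp ≫ pS) ≫ ·) hc₁))))
          have eR : m ≫ θ ≫ pullback.snd fb v₀l ≫ v₁l = (ζp ≫ pS) ≫ v₁l :=
            (congrArg (m ≫ ·) ((Category.assoc _ _ _).symm.trans (congrArg (· ≫ v₁l) hθs))).trans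
              ((Category.assoc _ _ _).symm.trans (congrArg (· ≫ v₁l) (pullback.lift_snd _ _ _)))
          exact eL.trans eR.symm
        · show (c ≫ bcFst j B₁' ≫ ((EtCoh.bc fb).map ι₁).left) ≫ B₁.hom =
            ((m ≫ θ) ≫ fibreMap fb hPb.w v₁) ≫ B₁.hom
          simp only [Category.assoc]
          rw [MorphismProperty.Over.w ((EtCoh.bc fb).map ι₁), fibreMap_hom fb hPb.w v₁, ← hθ, ← Category.assoc m a, hma,
            Category.assoc]
          exact congrArg (c ≫ ·) pullback.condition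
      · refine (pullback.lift_snd _ _ _).trans (Eq.symm ?_)
        show (c ≫ k₁.left) ≫ U₀.hom = m ≫ a
        rw [Category.assoc, MorphismProperty.Over.w, hma]
    have h2 : At w F t₁ (m ≫ a) c hma.symm n (by rw [hn', hma]) s := by
      refine Eq.trans ?_ h1
      exact val_map G (m ≫ a) k₁ c _ l _ hl.symm t'
    exact (at_comp_iff (𝟙 _) (ζ := m ≫ a) hma.symm rfl (by rw [hn', hma]) hn'
      (Category.id_comp c) (Category.id_comp n) s).2 h2
  -- the fibre
  let v₂p : V₁'.left := c₁ default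
  have hfib : ∀ x ∈ W₂, p₂ x = v₂p → ∃ (N : X.Etale) (n : N.left) (h : N ⟶ B₂) (s : F.obj.obj (op N)),
      h.left n = x ∧ ∀ (K : Type u) [Field K] [IsSepClosed K] (c : Spec (CommRingCat.of K) ⟶ U₁.left)
        (d : Spec (CommRingCat.of K) ⟶ N.left) (e : c ≫ π₂₀ ≫ W₂.ι = d ≫ h.left) (_ : d default = n),
        At w F t₁ (c ≫ U₁.hom) c rfl d (by
          rw [← MorphismProperty.Over.w h, ← Category.assoc, ← e]
          simp only [Category.assoc]
          rw [hπ]) s := by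
    intro x _ hx
    have hsqP : IsPullback fm₂ pS p₂ c₁ := by
      refine IsPullback.of_right ?_ hfm₂S (IsPullback.of_hasPullback V₂.hom f).flip
      exact (congrArg (fun r => IsPullback r pS f _) hfm₂X).mpr
        ((congrArg (fun r => IsPullback pX pS f r) (show c₁ ≫ V₂.hom = ξ from Over.w v₂)).mpr hP)
    obtain ⟨z, hz, -⟩ := Scheme.exists_preimage_of_isPullback hsqP x default hx
    let g := geomPt P z
    obtain ⟨N₀, n₀, hn₀, s, hs⟩ := exists_at pX F σ g g (Category.comp_id _)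
    have hn₀' : n₀ ≫ N₀.hom = (g ≫ fm₂) ≫ B₂.hom := by rw [hn₀, Category.assoc, hfm₂X]
    let n₁ : Spec (CommRingCat.of _) ⟶ (Gabber24.prod N₀ B₂).left := pullback.lift n₀ (g ≫ fm₂) hn₀'
    have hn₁ : n₁ ≫ (prodSnd N₀ B₂).left = g ≫ fm₂ := pullback.lift_snd _ _ _
    refine ⟨Gabber24.prod N₀ B₂, n₁ default, prodSnd N₀ B₂, F.obj.map (prodFst N₀ B₂).op s, ?_, ?_⟩
    · rw [← Scheme.Hom.comp_apply, hn₁, Scheme.Hom.comp_apply, geomPt_default, hz]
    intro K _ _ c d e hd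
    obtain ⟨q, -⟩ := exists_geom_over d n₁ default default hd
    let g' := geomPt _ q
    let ψ := g' ≫ pullback.fst d n₁
    let χ := g' ≫ pullback.snd d n₁
    have hψχ : ψ ≫ d = χ ≫ n₁ := (Category.assoc _ _ _).trans ((congrArg (g' ≫ ·) pullback.condition).trans
      (Category.assoc _ _ _).symm)
    have hc : (ψ ≫ c) ≫ π₂ = (χ ≫ g) ≫ fm₂ := by
      rw [← hπ₂₀, Category.assoc ψ, e, ← Category.assoc ψ, hψχ, Category.assoc χ, hn₁, Category.assoc]
      simp only [χ, Category.assoc]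
    have hs' : At pX F σ (χ ≫ g) (χ ≫ g) (Category.comp_id _) (χ ≫ n₀) (by
        rw [Category.assoc, hn₀]; simp only [χ, Category.assoc]) s :=
      (at_comp_iff χ (Category.comp_id _) (Category.comp_id _) hn₀ _ rfl rfl s).2 hs
    have hX : (χ ≫ n₀) ≫ N₀.hom = ((ψ ≫ c) ≫ U₁.hom) ≫ w := by
      rw [Category.assoc χ, hn₀, Category.assoc (ψ ≫ c), ← hπ₂X, ← Category.assoc (ψ ≫ c), hc]
      simp only [χ, Category.assoc, hfm₂X]
    have h1 := transfer _ (ψ ≫ c) (χ ≫ g) hc N₀ (χ ≫ n₀) _ s hs' hX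
    have hd' : (ψ ≫ d) ≫ (Gabber24.prod N₀ B₂).hom = ((ψ ≫ c) ≫ U₁.hom) ≫ w := by
      rw [← MorphismProperty.Over.w (prodFst N₀ B₂), ← Category.assoc, hψχ, Category.assoc χ,
        show n₁ ≫ (prodFst N₀ B₂).left = n₀ from pullback.lift_fst _ _ _, hX]
    have h2 : At w F t₁ ((ψ ≫ c) ≫ U₁.hom) (ψ ≫ c) rfl (ψ ≫ d) hd' (F.obj.map (prodFst N₀ B₂).op s) :=
      h1.congr (val_map F _ (prodFst N₀ B₂) _ hd' _ hX (by
        rw [hψχ, Category.assoc χ]; exact congrArg (χ ≫ ·) (pullback.lift_fst _ _ _)) s).symm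
    exact (at_comp_iff ψ (ζ := c ≫ U₁.hom) rfl rfl _ hd' rfl rfl _).1 h2
  obtain ⟨O, hvO, tt, hgood, hout⟩ := exists_descent B₂ p₂ F w U₁ t₁ W₂ π₂₀ hπ hK v₂p hfib
  -- the final neighbourhood
  let V₃ := EtSite.sub V₂ O
  let ι₃ := EtSite.subHom V₂ O
  obtain ⟨c₃, hc₃⟩ := ExtShriek24.exists_lift_opens O c₁ hvO
  let v₃ : fib ξ V₃ := Over.homMk c₃ (by
    show c₃ ≫ O.ι ≫ V₂.hom = ξ
    rw [← Category.assoc, hc₃]
    exact Over.w v₂)
  let m₃ := (EtCoh.bc f).map ι₃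
  let kl : ((EtCoh.bc f).obj V₃).left ⟶ (p₂ ⁻¹ᵁ O).toScheme := IsOpenImmersion.lift (p₂ ⁻¹ᵁ O).ι m₃.left (by
    rw [Scheme.Opens.range_ι]
    rintro _ ⟨y, rfl⟩
    show p₂ (m₃.left y) ∈ O
    have h := congrArg (fun r => r y) (bcFst_nat f ι₃)
    simp only [Scheme.Hom.comp_apply] at h
    exact (congrArg (· ∈ O) h).mpr (bcFst f V₃ y).2)
  have hkl : kl ≫ (p₂ ⁻¹ᵁ O).ι = m₃.left := IsOpenImmersion.lift_fac _ _ _
  let k₃ : (EtCoh.bc f).obj V₃ ⟶ EtSite.sub B₂ (p₂ ⁻¹ᵁ O) := MorphismProperty.Over.homMk kl (by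
    show kl ≫ (p₂ ⁻¹ᵁ O).ι ≫ B₂.hom = ((EtCoh.bc f).obj V₃).hom
    rw [← Category.assoc, hkl, MorphismProperty.Over.w])
  have hfm₃ : fibreMap f hP.w v₃ ≫ m₃.left = fm₂ := by
    rw [fibreMap_map]
    exact congrArg (fibreMap f hP.w) (Over.OverMorphism.ext hc₃)
  refine ⟨V₃, v₃, F.obj.map k₃.op tt, ?_, fun K _ _ ζ => ?_⟩
  · refine ClSub24.isProperOver_subset (pullback.fst V₃.hom f) ?_ (EtShriek24.isClosed_sectSupp _ _ _)
      (ClSub24.isProperOver_preimage_of_isPullback p₂ (EtCoh.isPullback_bc_map f ι₃) hK)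
    intro y hy
    rw [EtShriek24.sectSupp_map] at hy
    rw [EtShriek24.sectSupp_eq] at hy
    by_contra hn
    refine hy (hout _ ?_)
    show (p₂ ⁻¹ᵁ O).ι (kl y) ∉ _
    rw [← Scheme.Hom.comp_apply, hkl]
    exact hn
  · let d : Spec (CommRingCat.of K) ⟶ (EtSite.sub B₂ (p₂ ⁻¹ᵁ O)).left := (ζ ≫ fibreMap f hP.w v₃) ≫ kl
    have hd : d ≫ (p₂ ⁻¹ᵁ O).ι = ζ ≫ fm₂ := by
      exact (Category.assoc _ _ _).trans ((congrArg (_ ≫ ·) hkl).trans
        ((Category.assoc _ _ _).trans (congrArg (ζ ≫ ·) hfm₃)))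
    have hdX : d ≫ (EtSite.sub B₂ (p₂ ⁻¹ᵁ O)).hom = ζ ≫ pX := by
      show d ≫ (p₂ ⁻¹ᵁ O).ι ≫ B₂.hom = ζ ≫ pX
      rw [← Category.assoc, hd, Category.assoc, hfm₂X]
    suffices h : At pX F σ ζ ζ (Category.comp_id ζ) d hdX tt by
      exact h.congr (val_map F _ k₃ _ _ d hdX rfl tt).symm
    by_cases hW : (EtSite.subHom B₂ (p₂ ⁻¹ᵁ O)).left (d default) ∈ W₂
    · obtain ⟨K', _, _, ψ, c, e⟩ := exists_lift_geom (π₀ := π₂₀) (EtSite.subHom B₂ (p₂ ⁻¹ᵁ O)) d hW
      have hc : c ≫ π₂ = (ψ ≫ ζ) ≫ fm₂ := by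
        rw [← hπ₂₀, e, Category.assoc, Category.assoc]
        exact congrArg (ψ ≫ ·) hd
      obtain ⟨N, n, hn, s, hs⟩ := exists_at pX F σ (ψ ≫ ζ) (ψ ≫ ζ) (Category.comp_id _)
      have hX : n ≫ N.hom = (c ≫ U₁.hom) ≫ w := by
        rw [hn, Category.assoc c, ← hπ₂X, ← Category.assoc c, hc]
        simp only [Category.assoc, hfm₂X]
      have h1 := transfer _ c (ψ ≫ ζ) hc N n hn s hs hX
      have h2 := hgood.1 _ c (ψ ≫ d) e
      have hdX' : (ψ ≫ d) ≫ (EtSite.sub B₂ (p₂ ⁻¹ᵁ O)).hom = (ψ ≫ ζ) ≫ pX := by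
        rw [Category.assoc, hdX, Category.assoc]
      have h3 := hs.congr (n' := ψ ≫ d) (hn' := hdX') ((val_congr' F (show (c ≫ U₁.hom) ≫ w = (ψ ≫ ζ) ≫ pX by
        rw [← hX, hn]) rfl rfl).1 (h1.val_eq h2))
      exact (at_comp_iff ψ (ζ := ζ) (Category.comp_id _) (Category.comp_id _) hdX hdX' rfl rfl tt).1 h3
    · have hz : ζ default ∉ Z := by
        intro hz
        apply hW
        rw [← Scheme.Hom.comp_apply, show d ≫ (EtSite.subHom B₂ (p₂ ⁻¹ᵁ O)).left = ζ ≫ fm₂ from hd,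
          Scheme.Hom.comp_apply]
        show mid (fm₂ (ζ default)) ∈ W
        rw [← Scheme.Hom.comp_apply, hmidfm]
        obtain ⟨t, ht⟩ := hr.ge hz
        exact hCW ⟨t, (Scheme.Hom.comp_apply i fm₀ t).trans (congrArg fm₀ ht)⟩
      have hσ0 : val ((EtCoh.pull pX).obj F) ζ ζ (Category.comp_id ζ) σ = 0 := by
        rw [val_eq_zero_iff]
        by_contra hne
        exact hz (by rw [show Z = _ from EtShriek24.sectSupp_eq _ _ _]; exact hne)
      exact hσ0.trans ((congrArg _ ((val_eq_zero_iff F d hdX tt).2 (hgood.2 _ hW))).trans (map_zero _)).symm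

end Groth.Agent.ShriekBC24
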