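import Groth.Agent.Lib.ShriekBC24.BaseChange
import Groth.Agent.Lib.EtShriek24.Compactification
import Groth.Agent.Lib.ProperPush24.Fibre

/-!
# Stalks of direct images with proper support are compactly supported sections on geometric fibres
-/

universe u

open CategoryTheory CategoryTheory.Limits AlgebraicGeometry Opposite

set_option backward.isDefEq.respectTransparency.types false

namespace Groth.Agent.ShriekBC24

open Groth.Agent.EtStalk Groth.Agent.Gabber24 Groth.Agent.ConnDescent24 Groth.Agent.ProperPush24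

/-- The stalk of a direct image with proper support. -/
theorem nonempty_stalk_iso_H0c {X Y : Scheme.{u}} (f : X ⟶ Y) [IsSeparated f] [LocallyOfFiniteType f]
    (F : EtCoh.Ab X) {Ω : Type u} [Field Ω] [IsSepClosed Ω] (η : Spec (CommRingCat.of Ω) ⟶ Y) :
    Nonempty ((EtCoh.stalk η).obj ((EtShriek.lowerShriek f).obj F) ≅
      AddCommGrpCat.of (EtShriek.H0c (pullback.snd f η) ((EtCoh.pull (pullback.fst f η)).obj F))) := by
  let p := pullback.snd f η
  haveI : LocallyOfFiniteType p := inferInstanceAs (LocallyOfFiniteType (pullback.snd f η))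
  let G := (EtCoh.pull (pullback.fst f η)).obj F
  obtain ⟨e⟩ := nonempty_iso_baseChange f F η p (pullback.fst f η) (IsPullback.of_hasPullback f η)
  obtain ⟨e'⟩ := EtShriek24.H0c_iso_sect p G
  let H := (EtShriek24.shFunctor p).obj G
  let φ : fib (𝟙 _) (EtCoh.top (Spec (CommRingCat.of Ω))) := Over.homMk (𝟙 _) (Category.comp_id _)
  haveI : IsIso (germ (𝟙 _) H φ) :=
    (ConcreteCategory.isIso_iff_bijective _).2 (bijective_germ_top_field H)
  exact ⟨(EtCoh.stalk η).mapIso ((EtShriek24.shIso f).app F) ≪≫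
    eqToIso (congrArg (fun t => (EtCoh.stalk t).obj ((EtShriek24.shFunctor f).obj F)) (Category.id_comp η).symm) ≪≫
    asIso (stalkPull η (𝟙 _) ((EtShriek24.shFunctor f).obj F)) ≪≫
    (EtCoh.stalk (𝟙 _)).mapIso e.symm ≪≫
    (asIso (germ (𝟙 _) H φ)).symm ≪≫
    (AddEquiv.toAddCommGrpIso e').symm⟩

end Groth.Agent.ShriekBC24
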